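import Groth.Agent.Lib.FlatCx.Local
import Mathlib.Algebra.Category.ModuleCat.Monoidal.Basic

/-!
# `T_p(M) = H_p(P) ⊗ M` when `Q_q` is flat
-/

universe u

open CategoryTheory CategoryTheory.Limits TensorProduct MonoidalCategory
open Groth.Agent.Lib.FlatCx.Elem Groth.Agent.Lib.FlatCx.Basic Groth.Agent.Lib.FlatCx.HKer
open Groth.Agent.Lib.FlatCx.Local

namespace Groth.Agent.Lib.FlatCx.RightExact

theorem flat_extension {A : Type u} [CommRing A] {X Y Z : Type u} [AddCommGroup X] [Module A X]
    [AddCommGroup Y] [Module A Y] [AddCommGroup Z] [Module A Z] (f : X →ₗ[A] Y) (g : Y →ₗ[A] Z)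
    (hf : Function.Injective f) (hg : Function.Surjective g) (h : Function.Exact f g)
    [Module.Flat A X] [Module.Flat A Z] : Module.Flat A Y := by
  rw [Module.Flat.iff_rTensor_preserves_injective_linearMap]
  intro N N' _ _ _ _ i hi
  rw [injective_iff_map_eq_zero]
  intro x hx
  have hgx : g.lTensor N x = 0 := by
    apply Module.Flat.rTensor_preserves_injective_linearMap (M := Z) i hi
    rw [map_zero, ← LinearMap.comp_apply, LinearMap.rTensor_comp_lTensor,
      ← LinearMap.lTensor_comp_rTensor, LinearMap.comp_apply, hx, map_zero]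
  obtain ⟨k, rfl⟩ := (_root_.lTensor_exact N h hg x).1 hgx
  have : k = 0 := by
    apply Module.Flat.rTensor_preserves_injective_linearMap (M := X) i hi
    apply LinearMap.lTensor_injective_of_exact_of_flat g hg f hf h N'
    rw [map_zero, map_zero, ← LinearMap.comp_apply, LinearMap.lTensor_comp_rTensor,
      ← LinearMap.rTensor_comp_lTensor, LinearMap.comp_apply, hx]
  rw [this, map_zero]

variable {A : Type u} [CommRing A] (P : ChainComplex (ModuleCat.{u} A) ℤ)

/-- `x ↦ x ⊗ m` as a map of complexes -/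
noncomputable def θ (M : ModuleCat.{u} A) (m : M) : P ⟶ CohIII.tensorObj P M where
  f i := ModuleCat.ofHom ((TensorProduct.mk A (P.X i) M).flip m)
  comm' i j _ := ModuleCat.hom_ext (LinearMap.ext fun x => rfl)

theorem cycles_θ (M : ModuleCat.{u} A) (m : M) {p q : ℤ} (z : P.X p) (hz : D P p q z = 0) :
    (D P p q).rTensor M (z ⊗ₜ[A] m) = 0 := by
  rw [LinearMap.rTensor_tmul, hz, zero_tmul]

theorem θ_cls (M : ModuleCat.{u} A) (m : M) (p q : ℤ) (hq : (ComplexShape.down ℤ).next p = q)
    (z : LinearMap.ker (D P p q)) :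
    HomologicalComplex.homologyMap (θ P M m) p (cls hq z) =
      tcls P M p q hq (z.1 ⊗ₜ m) (cycles_θ P M m z.1 z.2) :=
  homologyMap_cls (θ P M m) hq z ⟨_, cycles_θ P M m z.1 z.2⟩ rfl

/-- the comparison `H_p(P) ⊗ M → T_p(M)` -/
noncomputable def η (M : ModuleCat.{u} A) (p : ℤ) : P.homology p ⊗[A] M →ₗ[A] CohIII.T P p M :=
  TensorProduct.lift <| LinearMap.flip
    { toFun := fun m => (HomologicalComplex.homologyMap (θ P M m) p).hom
      map_add' := fun m m' => LinearMap.ext fun a => by
        obtain ⟨z, rfl⟩ := cls_surjective (next_eq' p) a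
        show HomologicalComplex.homologyMap (θ P M (m + m')) p (cls (next_eq' p) z) =
          HomologicalComplex.homologyMap (θ P M m) p (cls (next_eq' p) z) +
            HomologicalComplex.homologyMap (θ P M m') p (cls (next_eq' p) z)
        rw [θ_cls, θ_cls, θ_cls]
        unfold tcls
        rw [← map_add]
        congr 1
        exact Subtype.ext (tmul_add _ _ _)
      map_smul' := fun r m => LinearMap.ext fun a => by
        obtain ⟨z, rfl⟩ := cls_surjective (next_eq' p) a
        show HomologicalComplex.homologyMap (θ P M (r • m)) p (cls (next_eq' p) z) =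
          r • HomologicalComplex.homologyMap (θ P M m) p (cls (next_eq' p) z)
        rw [θ_cls, θ_cls]
        unfold tcls
        rw [← map_smul]
        congr 1
        exact Subtype.ext (tmul_smul _ _ _) }

theorem η_tmul (M : ModuleCat.{u} A) (p q : ℤ) (hq : (ComplexShape.down ℤ).next p = q)
    (z : LinearMap.ker (D P p q)) (m : M) :
    η P M p (cls hq z ⊗ₜ m) = tcls P M p q hq (z.1 ⊗ₜ m) (cycles_θ P M m z.1 z.2) := by
  rw [η, TensorProduct.lift.tmul]
  exact θ_cls P M m p q hq z

theorem η_natural {M N : ModuleCat.{u} A} (g : M ⟶ N) (p : ℤ) (a : P.homology p ⊗[A] M) :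
    (CohIII.TFun P p).map g (η P M p a) = η P N p (g.hom.lTensor (P.homology p) a) := by
  induction a using TensorProduct.induction_on with
  | zero => simp only [map_zero]; exact map_zero ((CohIII.TFun P p).map g).hom
  | tmul a m =>
    obtain ⟨z, rfl⟩ := cls_surjective (next_eq' p) a
    rw [LinearMap.lTensor_tmul, η_tmul, η_tmul]
    exact map_tcls P g p (p - 1) (next_eq' p) _ _ (cycles_θ P N (g.hom m) z.1 z.2)
  | add a b ha hb =>
    rw [map_add, map_add, map_add, ← ha, ← hb]
    exact map_add ((CohIII.TFun P p).map g).hom _ _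

theorem TKerEquiv_tcls (M : ModuleCat.{u} A) {p q : ℤ} (hpq : q + 1 = p) (z : P.X p ⊗[A] M)
    (hz : (D P p q).rTensor M z = 0) :
    (TKerEquiv P M hpq (tcls P M p q (next_eq hpq) z hz)).1 = (Bd P p).mkQ.rTensor M z := by
  show QTensorEquiv P M p
    (homologyKerEquiv (CohIII.tensorObj P M) hpq (cls (next_eq hpq) ⟨z, hz⟩)).1 = _
  rw [homologyKerEquiv_cls (CohIII.tensorObj P M) hpq ⟨z, hz⟩]
  rfl

theorem TKerEquiv_η (M : ModuleCat.{u} A) {p q : ℤ} (hpq : q + 1 = p) (a : P.homology p ⊗[A] M) :
    (TKerEquiv P M hpq (η P M p a)).1 =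
      (LinearMap.ker (Dbar P p q)).subtype.rTensor M
        ((homologyKerEquiv P hpq).toLinearMap.rTensor M a) := by
  induction a using TensorProduct.induction_on with
  | zero => simp
  | tmul a m =>
    obtain ⟨z, rfl⟩ := cls_surjective (next_eq hpq) a
    rw [η_tmul, TKerEquiv_tcls P M hpq, LinearMap.rTensor_tmul, LinearMap.rTensor_tmul,
      LinearMap.rTensor_tmul, LinearEquiv.coe_coe, homologyKerEquiv_cls P hpq]
    rfl
  | add a b ha hb => simp only [map_add, Submodule.coe_add, ha, hb]

theorem η_bijective (M : ModuleCat.{u} A) {p q : ℤ} (hpq : q + 1 = p) [Module.Flat A (P.X q)]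
    [Module.Flat A (Q P q)] : Function.Bijective (η P M p) := by
  have : Module.Flat A (P.X q ⧸ LinearMap.range (Dbar P p q)) :=
    Module.Flat.of_linearEquiv (Submodule.quotEquivOfEq _ _ (range_Dbar P hpq))
  obtain ⟨hi, he⟩ := Ker.ker_lTensor_of_flat_coker (Dbar P p q) M
  have hi' : Function.Injective ((LinearMap.ker (Dbar P p q)).subtype.rTensor M) :=
    (LinearMap.lTensor_inj_iff_rTensor_inj _ _).1 hi
  have he' : Function.Exact ((LinearMap.ker (Dbar P p q)).subtype.rTensor M) ((Dbar P p q).rTensor M) :=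
    (Function.Exact.iff_of_ladder_linearEquiv (e₁ := TensorProduct.comm A M _)
      (e₂ := TensorProduct.comm A M _) (e₃ := TensorProduct.comm A M _)
      (f₁₂ := (LinearMap.ker (Dbar P p q)).subtype.lTensor M) (f₂₃ := (Dbar P p q).lTensor M)
      (TensorProduct.ext' fun _ _ => rfl) (TensorProduct.ext' fun _ _ => rfl)).2 he
  have hh : Function.Bijective ((homologyKerEquiv P hpq).toLinearMap.rTensor M) :=
    ((homologyKerEquiv P hpq).rTensor M).bijective
  constructor
  · intro a b h
    have := congrArg (fun x => (TKerEquiv P M hpq x).1) h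
    simp only [TKerEquiv_η] at this
    exact hh.1 (hi' this)
  · intro t
    obtain ⟨k, hk⟩ := (he' _).1 (TKerEquiv P M hpq t).2
    obtain ⟨a, rfl⟩ := hh.2 k
    exact ⟨a, (TKerEquiv P M hpq).injective (Subtype.ext ((TKerEquiv_η P M hpq a).trans hk))⟩

/-- `T_p(M) ≅ H_p(P) ⊗ M` -/
noncomputable def TTensorEquiv (M : ModuleCat.{u} A) {p q : ℤ} (hpq : q + 1 = p)
    [Module.Flat A (P.X q)] [Module.Flat A (Q P q)] :
    P.homology p ⊗[A] M ≃ₗ[A] CohIII.T P p M :=
  LinearEquiv.ofBijective (η P M p) (η_bijective P M hpq)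

/-- `T_p ≅ H_p(P) ⊗ -` -/
noncomputable def natIso {p q : ℤ} (hpq : q + 1 = p)
    [Module.Flat A (P.X q)] [Module.Flat A (Q P q)] :
    CohIII.TFun P p ≅ tensorLeft (P.homology p) :=
  (NatIso.ofComponents (fun M => (TTensorEquiv P M hpq).toModuleIso) (fun {M N} g =>
    ModuleCat.hom_ext (LinearMap.ext fun a => (η_natural P g p a).symm)) :
      tensorLeft (P.homology p) ≅ CohIII.TFun P p).symm

variable {P} in
theorem preservesEpi_of_iso {p : ℤ} (N : ModuleCat.{u} A) (e : CohIII.TFun P p ≅ tensorLeft N) :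
    (CohIII.TFun P p).PreservesEpimorphisms := by
  refine ⟨fun {X Y} g _ => (ModuleCat.epi_iff_surjective _).2 fun y => ?_⟩
  obtain ⟨x, hx⟩ := LinearMap.lTensor_surjective N ((ModuleCat.epi_iff_surjective g).1 inferInstance)
    ((e.app Y).toLinearEquiv y)
  refine ⟨(e.app X).toLinearEquiv.symm x, (e.app Y).toLinearEquiv.injective ?_⟩
  rw [← hx]
  refine (ConcreteCategory.congr_hom (e.hom.naturality g) _).trans ?_
  show g.hom.lTensor N ((e.app X).toLinearEquiv ((e.app X).toLinearEquiv.symm x)) = _
  rw [LinearEquiv.apply_symm_apply]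

variable {P} in
theorem preservesMono_of_iso {p : ℤ} (N : ModuleCat.{u} A) [Module.Flat A N]
    (e : CohIII.TFun P p ≅ tensorLeft N) : (CohIII.TFun P p).PreservesMonomorphisms := by
  refine ⟨fun {X Y} g _ => (ModuleCat.mono_iff_injective _).2 fun a b hab => ?_⟩
  apply (e.app X).toLinearEquiv.injective
  apply Module.Flat.lTensor_preserves_injective_linearMap (M := N) g.hom
    ((ModuleCat.mono_iff_injective g).1 inferInstance)
  exact ((ConcreteCategory.congr_hom (e.hom.naturality g) a).symm.trans
    (congrArg (e.app Y).toLinearEquiv hab)).trans (ConcreteCategory.congr_hom (e.hom.naturality g) b)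

variable [∀ i, Module.Flat A (P.X i)]

theorem flat_Q_of_flat_homology {p q : ℤ} (hpq : q + 1 = p) [Module.Flat A (Q P q)]
    [Module.Flat A (P.homology p)] : Module.Flat A (Q P p) := by
  have : Module.Flat A (P.X q ⧸ LinearMap.range (Dbar P p q)) :=
    Module.Flat.of_linearEquiv (Submodule.quotEquivOfEq _ _ (range_Dbar P hpq))
  have := Ker.flat_range (Dbar P p q)
  have : Module.Flat A (LinearMap.ker (Dbar P p q)) :=
    Module.Flat.of_linearEquiv (homologyKerEquiv P hpq).symm
  exact flat_extension (LinearMap.ker (Dbar P p q)).subtype (Dbar P p q).rangeRestrict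
    (Submodule.subtype_injective _) (LinearMap.surjective_rangeRestrict _)
    (fun y => by simp [Subtype.ext_iff])

/-- exact ↔ right exact and `H_p` flat -/
theorem exact_iff_epi_and_flat (p : ℤ) :
    ((CohIII.TFun P p).PreservesMonomorphisms ∧ (CohIII.TFun P p).PreservesEpimorphisms) ↔
      (CohIII.TFun P p).PreservesEpimorphisms ∧ Module.Flat A (P.homology p) := by
  refine ⟨fun h => ⟨h.2, flat_homology_of_exact P p h⟩, fun ⟨h, _⟩ => ⟨?_, h⟩⟩
  have := (preservesEpi_iff P p (p - 1) (by omega)).1 h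
  have := flat_Q_of_flat_homology P (by omega : (p - 1) + 1 = p)
  exact (preservesMono_iff P p (p - 1) (by omega)).2 this

omit [∀ i, Module.Flat A (P.X i)] in
theorem subsingleton_X {i₀ : ℤ} (hb : ∀ i < i₀, IsZero (P.X i)) (q : ℤ) (hq : q < i₀) :
    Subsingleton (Q P q) :=
  have := ModuleCat.isZero_iff_subsingleton.1 (hb q hq)
  (Submodule.mkQ_surjective _).subsingleton

theorem flat_Q_upTo {i₀ : ℤ} (hb : ∀ i < i₀, IsZero (P.X i)) (p : ℤ)
    (hflat : ∀ q ≤ p, Module.Flat A (P.homology q)) : ∀ q ≤ p, Module.Flat A (Q P q) := by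
  have key : ∀ (n : ℕ) (q : ℤ), q ≤ p → q - i₀ < n → Module.Flat A (Q P q) := by
    intro n
    induction n with
    | zero =>
      intro q _ hq
      have := subsingleton_X P hb q (by omega)
      infer_instance
    | succ n ih =>
      intro q hqp hq
      have := ih (q - 1) (by omega) (by omega)
      have := hflat q hqp
      exact flat_Q_of_flat_homology P (by omega : (q - 1) + 1 = q)
  exact fun q hq => key ((q - i₀).toNat + 1) q hq (by omega)

theorem exact_upTo_iff {i₀ : ℤ} (hb : ∀ i < i₀, IsZero (P.X i)) (p : ℤ) :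
    (∀ q ≤ p, (CohIII.TFun P q).PreservesMonomorphisms ∧ (CohIII.TFun P q).PreservesEpimorphisms) ↔
      ∀ q ≤ p, Module.Flat A (P.homology q) := by
  refine ⟨fun h q hq => flat_homology_of_exact P q (h q hq), fun h q hq => ?_⟩
  rw [preservesMono_iff P q (q - 1) (by omega), preservesEpi_iff P q (q - 1) (by omega)]
  exact ⟨flat_Q_upTo P hb p h q hq, flat_Q_upTo P hb p h (q - 1) (by omega)⟩

section IsLocalRing

variable [IsLocalRing A] [IsNoetherianRing A]

theorem isZero_of_residue (hP : ∀ i, Module.Finite A (P.X i)) (p : ℤ)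
    (hk : IsZero (CohIII.T P p (ModuleCat.of A (IsLocalRing.ResidueField A)))) :
    ((CohIII.TFun P p).PreservesEpimorphisms) ∧ ∀ M, IsZero (CohIII.T P p M) := by
  have hs := ModuleCat.isZero_iff_subsingleton.1 hk
  have he := (preservesEpi_iff_residue_of_finite P hP p (p - 1) (by omega)).2
    (fun y => ⟨0, @Subsingleton.elim _ hs _ _⟩)
  refine ⟨he, fun M => ?_⟩
  have := (preservesEpi_iff P p (p - 1) (by omega)).1 he
  have := hP p
  have : Subsingleton (P.homology p ⊗[A] IsLocalRing.ResidueField A) :=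
    (TTensorEquiv P (ModuleCat.of A (IsLocalRing.ResidueField A))
      (by omega : (p - 1) + 1 = p)).injective.subsingleton
  have : Subsingleton (IsLocalRing.ResidueField A ⊗[A] P.homology p) :=
    (TensorProduct.comm A _ _).symm.injective.subsingleton
  have : Module.Finite A (P.homology p) :=
    Module.Finite.equiv (homologyKerEquiv P (by omega : (p - 1) + 1 = p)).symm
  have : Subsingleton (P.homology p) :=
    (IsLocalRing.subsingleton_tensorProduct (R := A)).1 ‹Subsingleton (IsLocalRing.ResidueField A ⊗[A] P.homology p)›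
  rw [ModuleCat.isZero_iff_subsingleton]
  exact (TTensorEquiv P M (by omega : (p - 1) + 1 = p)).symm.injective.subsingleton

end IsLocalRing

end Groth.Agent.Lib.FlatCx.RightExact
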