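import Mathlib.RingTheory.Flat.Equalizer
import Mathlib.LinearAlgebra.TensorProduct.RightExactness
import Mathlib.LinearAlgebra.Dimension.RankNullity
import Mathlib.LinearAlgebra.FiniteDimensional.Lemmas

/-!
# Kernels and tensor products (linear algebra for `FlatCx`)
-/

universe u

open TensorProduct

namespace Groth.Agent.Lib.FlatCx.Ker

variable {A : Type u} [CommRing A] {X Y Z : Type u} [AddCommGroup X] [Module A X]
  [AddCommGroup Y] [Module A Y] [AddCommGroup Z] [Module A Z]

/-- The kernel of a surjection between flat modules is flat. -/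
theorem flat_of_exact (f : X →ₗ[A] Y) (g : Y →ₗ[A] Z) (hf : Function.Injective f)
    (hg : Function.Surjective g) (h : Function.Exact f g) [Module.Flat A Y] [Module.Flat A Z] :
    Module.Flat A X := by
  rw [Module.Flat.iff_rTensor_preserves_injective_linearMap]
  intro N N' _ _ _ _ i hi
  have h1 : Function.Injective (f.lTensor N) :=
    LinearMap.lTensor_injective_of_exact_of_flat g hg f hf h N
  have h2 : Function.Injective (i.rTensor Y) := Module.Flat.rTensor_preserves_injective_linearMap i hi
  have h3 : Function.Injective (f.lTensor N' ∘ₗ i.rTensor X) := by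
    rw [LinearMap.lTensor_comp_rTensor, ← LinearMap.rTensor_comp_lTensor]
    exact h2.comp h1
  exact Function.Injective.of_comp (f := f.lTensor N') h3

/-- If the cokernel of `f` is flat and so is its target, the range of `f` is flat. -/
theorem flat_range (f : X →ₗ[A] Y) [Module.Flat A Y] [Module.Flat A (Y ⧸ LinearMap.range f)] :
    Module.Flat A (LinearMap.range f) :=
  flat_of_exact (LinearMap.range f).subtype (LinearMap.range f).mkQ Subtype.val_injective
    (Submodule.mkQ_surjective _) (LinearMap.exact_subtype_mkQ _)

/-- Tensoring with `M` commutes with taking the kernel of `f` if the cokernel of `f` and the target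
are flat. -/
theorem ker_lTensor_of_flat_coker (f : X →ₗ[A] Y) [Module.Flat A Y]
    [Module.Flat A (Y ⧸ LinearMap.range f)] (M : Type u) [AddCommGroup M] [Module A M] :
    Function.Injective ((LinearMap.ker f).subtype.lTensor M) ∧
      Function.Exact ((LinearMap.ker f).subtype.lTensor M) (f.lTensor M) := by
  have := flat_range f
  refine ⟨LinearMap.lTensor_injective_of_exact_of_flat f.rangeRestrict
    f.surjective_rangeRestrict _ Subtype.val_injective ?_ M, ?_⟩
  · intro x
    simp [Subtype.ext_iff]
  · have e1 : Function.Exact ((LinearMap.ker f).subtype.lTensor M) (f.rangeRestrict.lTensor M) :=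
      lTensor_exact M (fun x => by simp [Subtype.ext_iff]) f.surjective_rangeRestrict
    have e2 : Function.Injective ((LinearMap.range f).subtype.lTensor M) :=
      LinearMap.lTensor_injective_of_exact_of_flat (LinearMap.range f).mkQ
        (Submodule.mkQ_surjective _) _ Subtype.val_injective (LinearMap.exact_subtype_mkQ _) M
    have : f.lTensor M = (LinearMap.range f).subtype.lTensor M ∘ₗ f.rangeRestrict.lTensor M := by
      rw [← LinearMap.lTensor_comp]; rfl
    rw [this]
    exact e1.comp_injective _ e2 (map_zero _)

theorem ker_lTensor_of_flat (f : X →ₗ[A] Y) (M : Type u) [AddCommGroup M] [Module A M]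
    [Module.Flat A M] :
    Function.Injective ((LinearMap.ker f).subtype.lTensor M) ∧
      Function.Exact ((LinearMap.ker f).subtype.lTensor M) (f.lTensor M) :=
  ⟨Module.Flat.lTensor_preserves_injective_linearMap _ Subtype.val_injective,
    Module.Flat.lTensor_exact M (LinearMap.exact_subtype_ker_map f)⟩

/-- From `0 → M ⊗ ker f → M ⊗ X → M ⊗ Y`, identify `M ⊗ ker f` with the kernel. -/
noncomputable def kerEquiv (f : X →ₗ[A] Y) (M : Type u) [AddCommGroup M] [Module A M]
    (h : Function.Injective ((LinearMap.ker f).subtype.lTensor M) ∧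
      Function.Exact ((LinearMap.ker f).subtype.lTensor M) (f.lTensor M)) :
    M ⊗[A] LinearMap.ker f ≃ₗ[A] LinearMap.ker (f.lTensor M) :=
  LinearEquiv.ofInjective _ h.1 ≪≫ₗ LinearEquiv.ofEq _ _ h.2.linearMap_ker_eq.symm

/-- From `0 → B ⊗ ker f → B ⊗ X → B ⊗ Y`, identify `B ⊗ ker f` with the kernel, `B`-linearly. -/
noncomputable def kerBaseChangeEquiv (f : X →ₗ[A] Y) (B : Type u) [CommRing B] [Algebra A B]
    (h : Function.Injective ((LinearMap.ker f).subtype.lTensor B) ∧
      Function.Exact ((LinearMap.ker f).subtype.lTensor B) (f.lTensor B)) :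
    B ⊗[A] LinearMap.ker f ≃ₗ[B] LinearMap.ker (f.baseChange B) :=
  LinearEquiv.ofInjective ((LinearMap.ker f).subtype.baseChange B) h.1 ≪≫ₗ
    LinearEquiv.ofEq _ _ (by
      apply SetLike.ext'
      ext x
      exact (h.2 x).symm)

/-- Rank–nullity in the form `dim ker f + dim Y = dim X + dim coker f`. -/
theorem finrank_ker_add_finrank {K : Type u} [Field K] {V W : Type u} [AddCommGroup V] [Module K V]
    [AddCommGroup W] [Module K W] [FiniteDimensional K V] [FiniteDimensional K W] (f : V →ₗ[K] W) :
    Module.finrank K (LinearMap.ker f) + Module.finrank K W =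
      Module.finrank K V + Module.finrank K (W ⧸ LinearMap.range f) := by
  have h1 := f.finrank_range_add_finrank_ker
  have h2 := (LinearMap.range f).finrank_quotient_add_finrank
  omega

end Groth.Agent.Lib.FlatCx.Ker
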