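import Groth.Agent.Lib.FlatCx.HKer
import Mathlib.RingTheory.Flat.Stability

/-!
# Base change of a complex
-/

universe u

open CategoryTheory CategoryTheory.Limits TensorProduct
open Groth.Agent.Lib.FlatCx.Elem Groth.Agent.Lib.FlatCx.Basic Groth.Agent.Lib.FlatCx.HKer

namespace Groth.Agent.Lib.FlatCx.BaseChange

variable {A : Type u} [CommRing A] (P : ChainComplex (ModuleCat.{u} A) ℤ)
  (B : Type u) [CommRing B] [Algebra A B]

/-- the identity, between the two `A`-module structures on `B` -/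
noncomputable def idEquiv :
    (ModuleCat.restrictScalars (algebraMap A B)).obj (ModuleCat.of B B) ≃ₗ[A] B where
  toFun x := x
  invFun x := x
  left_inv _ := rfl
  right_inv _ := rfl
  map_add' _ _ := rfl
  map_smul' r x := (Algebra.smul_def r (show B from x)).symm

/-- extension of scalars is the base change `B ⊗ M` -/
noncomputable def extEquiv (M : ModuleCat.{u} A) :
    (ModuleCat.extendScalars (algebraMap A B)).obj M ≃ₗ[B] B ⊗[A] M where
  toFun := TensorProduct.congr (idEquiv B) (LinearEquiv.refl A M)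
  invFun := (TensorProduct.congr (idEquiv B) (LinearEquiv.refl A M)).symm
  left_inv x := (TensorProduct.congr (idEquiv B) (LinearEquiv.refl A M)).symm_apply_apply x
  right_inv x := (TensorProduct.congr (idEquiv B) (LinearEquiv.refl A M)).apply_symm_apply x
  map_add' x y := map_add (TensorProduct.congr (idEquiv B) (LinearEquiv.refl A M)) x y
  map_smul' b x := by
    induction x using TensorProduct.induction_on with
    | zero => simp only [RingHom.id_apply]; erw [map_zero]; simp
    | tmul s m => rfl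
    | add x y hx hy =>
      simp only [RingHom.id_apply] at hx hy ⊢
      erw [smul_add, map_add, map_add, smul_add, hx, hy]

theorem extEquiv_map {M N : ModuleCat.{u} A} (g : M ⟶ N)
    (x : (ModuleCat.extendScalars (algebraMap A B)).obj M) :
    extEquiv B N ((ModuleCat.extendScalars (algebraMap A B)).map g x) =
      g.hom.baseChange B (extEquiv B M x) := by
  induction x using TensorProduct.induction_on with
  | zero => erw [map_zero]
  | tmul s m => rfl
  | add x y hx hy =>
    erw [map_add, map_add, map_add, map_add, hx, hy]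

/-- the base-changed complex -/
noncomputable abbrev bc : ChainComplex (ModuleCat.{u} B) ℤ := CohIII.bcCx (algebraMap A B) P

/-- the terms of the base-changed complex -/
noncomputable def Xequiv (i : ℤ) : (bc P B).X i ≃ₗ[B] B ⊗[A] P.X i := extEquiv B (P.X i)

theorem extEquiv_D (p q : ℤ) (x : (bc P B).X p) :
    Xequiv P B q (D (bc P B) p q x) = (D P p q).baseChange B (Xequiv P B p x) :=
  extEquiv_map B (P.d p q) x

instance flat_bc_X (i : ℤ) [Module.Flat A (P.X i)] : Module.Flat B ((bc P B).X i) :=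
  Module.Flat.of_linearEquiv (Xequiv P B i)

instance finite_bc_X (i : ℤ) [Module.Finite A (P.X i)] : Module.Finite B ((bc P B).X i) :=
  Module.Finite.equiv (Xequiv P B i).symm

/-- the quotient map `(bc P).X p → B ⊗ Q_p` -/
noncomputable def toQ (p : ℤ) : (bc P B).X p →ₗ[B] B ⊗[A] Q P p :=
  (Bd P p).mkQ.baseChange B ∘ₗ (Xequiv P B p).toLinearMap

theorem toQ_surjective (p : ℤ) : Function.Surjective (toQ P B p) := by
  intro ξ
  obtain ⟨y, hy⟩ := LinearMap.lTensor_surjective B (Submodule.mkQ_surjective (Bd P p)) ξ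
  exact ⟨(Xequiv P B p).symm y, by
    show (Bd P p).mkQ.baseChange B (Xequiv P B p ((Xequiv P B p).symm y)) = ξ
    rw [LinearEquiv.apply_symm_apply]; exact hy⟩

theorem ker_toQ (p : ℤ) : LinearMap.ker (toQ P B p) = Bd (bc P B) p := by
  ext x
  refine ((_root_.lTensor_exact B (LinearMap.exact_map_mkQ_range (D P (p + 1) p))
    (Submodule.mkQ_surjective _) (Xequiv P B p x))).trans ⟨?_, ?_⟩
  · rintro ⟨y, hy⟩
    refine ⟨(Xequiv P B (p + 1)).symm y, (Xequiv P B p).injective ?_⟩
    rw [extEquiv_D, LinearEquiv.apply_symm_apply]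
    exact hy
  · rintro ⟨y, rfl⟩
    exact ⟨Xequiv P B (p + 1) y, (extEquiv_D P B (p + 1) p y).symm⟩

/-- `Q_p(P_B) = B ⊗ Q_p(P)` -/
noncomputable def QEquiv (p : ℤ) : Q (bc P B) p ≃ₗ[B] B ⊗[A] Q P p :=
  Submodule.quotEquivOfEq _ _ (ker_toQ P B p).symm ≪≫ₗ
    (toQ P B p).quotKerEquivOfSurjective (toQ_surjective P B p)

theorem QEquiv_mk (p : ℤ) (x : (bc P B).X p) :
    QEquiv P B p (Submodule.Quotient.mk x) = toQ P B p x := rfl

theorem extEquiv_Dbar (p q : ℤ) (ξ : Q (bc P B) p) :
    Xequiv P B q (Dbar (bc P B) p q ξ) = (Dbar P p q).baseChange B (QEquiv P B p ξ) := by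
  obtain ⟨x, rfl⟩ := Submodule.Quotient.mk_surjective _ ξ
  rw [Dbar_mk, extEquiv_D, QEquiv_mk]
  show _ = (Dbar P p q).baseChange B ((Bd P p).mkQ.baseChange B (Xequiv P B p x))
  rw [← LinearMap.comp_apply, ← LinearMap.baseChange_comp, Dbar_comp_mkQ]

/-- `ker (Dbar (P_B)) = ker (B ⊗ Dbar P)` -/
noncomputable def kerDbarEquiv (p q : ℤ) :
    LinearMap.ker (Dbar (bc P B) p q) ≃ₗ[B] LinearMap.ker ((Dbar P p q).baseChange B) :=
  LinearEquiv.ofSubmodules (QEquiv P B p) _ _ (by
    have : LinearMap.ker (Dbar (bc P B) p q) =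
        (LinearMap.ker ((Dbar P p q).baseChange B)).comap (QEquiv P B p).toLinearMap := by
      ext ξ
      show Dbar (bc P B) p q ξ = 0 ↔ (Dbar P p q).baseChange B (QEquiv P B p ξ) = 0
      rw [← extEquiv_Dbar, LinearEquiv.map_eq_zero_iff]
    rw [this]
    exact Submodule.map_comap_eq_of_surjective (QEquiv P B p).surjective _)

/-- If `B` is flat, homology commutes with base change. -/
noncomputable def homologyBCEquivOfFlat {p q : ℤ} (hpq : q + 1 = p) [Module.Flat A B] :
    (bc P B).homology p ≃ₗ[B] B ⊗[A] P.homology p :=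
  homologyKerEquiv (bc P B) hpq ≪≫ₗ kerDbarEquiv P B p q ≪≫ₗ
    (Ker.kerBaseChangeEquiv (Dbar P p q) B (Ker.ker_lTensor_of_flat _ B)).symm ≪≫ₗ
    ((homologyKerEquiv P hpq).baseChange A B).symm

theorem flat_coker_Dbar {p q : ℤ} (hpq : q + 1 = p) [Module.Flat A (Q P q)] :
    Module.Flat A (P.X q ⧸ LinearMap.range (Dbar P p q)) :=
  Module.Flat.of_linearEquiv (Submodule.quotEquivOfEq _ _ (range_Dbar P hpq))

/-- If `Q_q` is flat, homology commutes with base change. -/
noncomputable def homologyBCEquivOfFlatQ {p q : ℤ} (hpq : q + 1 = p) [Module.Flat A (P.X q)]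
    [Module.Flat A (Q P q)] :
    (bc P B).homology p ≃ₗ[B] B ⊗[A] P.homology p :=
  homologyKerEquiv (bc P B) hpq ≪≫ₗ kerDbarEquiv P B p q ≪≫ₗ
    (Ker.kerBaseChangeEquiv (Dbar P p q) B (by
      have := flat_coker_Dbar P hpq
      exact Ker.ker_lTensor_of_flat_coker _ B)).symm ≪≫ₗ
    ((homologyKerEquiv P hpq).baseChange A B).symm

theorem preservesEpi_bc_iff (p q : ℤ) (hpq : q + 1 = p) [Module.Flat A (P.X q)] :
    (CohIII.TFun (bc P B) p).PreservesEpimorphisms ↔ Module.Flat B (B ⊗[A] Q P q) :=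
  (preservesEpi_iff (bc P B) p q hpq).trans (Module.Flat.equiv_iff (QEquiv P B q))

theorem preservesMono_bc_iff (p q : ℤ) (hpq : q + 1 = p) [Module.Flat A (P.X q)] :
    (CohIII.TFun (bc P B) p).PreservesMonomorphisms ↔ Module.Flat B (B ⊗[A] Q P p) :=
  (preservesMono_iff (bc P B) p q hpq).trans (Module.Flat.equiv_iff (QEquiv P B p))

end Groth.Agent.Lib.FlatCx.BaseChange
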