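import Mathlib.Algebra.Homology.ShortComplex.ModuleCat
import Mathlib.Algebra.Homology.ShortComplex.HomologicalComplex
import Mathlib.Algebra.Category.ModuleCat.Abelian

/-!
# Element-level API for the homology of complexes of modules
-/

universe v u w

open CategoryTheory CategoryTheory.Limits

namespace Groth.Agent.Lib.FlatCx.Elem

variable {R : Type u} [Ring R] {ι : Type w} {c : ComplexShape ι}
  {K L N : HomologicalComplex (ModuleCat.{v} R) c} {i j k : ι}

theorem iCycles_injective (K : HomologicalComplex (ModuleCat.{v} R) c) (j : ι) :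
    Function.Injective (K.iCycles j) :=
  (ModuleCat.mono_iff_injective _).1 inferInstance

theorem homologyπ_surjective (K : HomologicalComplex (ModuleCat.{v} R) c) (j : ι) :
    Function.Surjective (K.homologyπ j) :=
  (ModuleCat.epi_iff_surjective _).1 inferInstance

theorem exists_cycles (hk : c.next j = k) (z : K.X j) (hz : K.d j k z = 0) :
    ∃ x : K.cycles j, K.iCycles j x = z := by
  subst hk
  refine ⟨(K.sc j).moduleCatCyclesIso.inv ⟨z, hz⟩, ?_⟩
  exact (K.sc j).moduleCatCyclesIso_inv_iCycles_apply ⟨z, hz⟩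

theorem d_iCycles (x : K.cycles j) : K.d j k (K.iCycles j x) = 0 := by
  rw [← ConcreteCategory.comp_apply, K.iCycles_d]
  rfl

/-- The homology class of a cycle. -/
noncomputable def cls (hk : c.next j = k) :
    LinearMap.ker (K.d j k).hom →ₗ[R] K.homology j :=
  (K.homologyπ j).hom ∘ₗ
    { toFun := fun z => (exists_cycles hk z.1 z.2).choose
      map_add' := fun z z' => by
        apply iCycles_injective
        rw [map_add, (exists_cycles hk z.1 z.2).choose_spec, (exists_cycles hk z'.1 z'.2).choose_spec,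
          (exists_cycles hk (z + z').1 (z + z').2).choose_spec]
        rfl
      map_smul' := fun r z => by
        apply iCycles_injective
        rw [RingHom.id_apply, map_smul, (exists_cycles hk z.1 z.2).choose_spec,
          (exists_cycles hk (r • z).1 (r • z).2).choose_spec]
        rfl }

theorem cls_eq_homologyπ (hk : c.next j = k) (z : LinearMap.ker (K.d j k).hom) (x : K.cycles j)
    (hx : K.iCycles j x = z.1) : cls hk z = K.homologyπ j x := by
  show K.homologyπ j _ = _
  congr 1
  apply iCycles_injective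
  rw [hx]
  exact (exists_cycles hk z.1 z.2).choose_spec

theorem cls_surjective (hk : c.next j = k) : Function.Surjective (cls (K := K) hk) := by
  intro h
  obtain ⟨x, rfl⟩ := homologyπ_surjective K j h
  exact ⟨⟨K.iCycles j x, d_iCycles x⟩, cls_eq_homologyπ hk _ x rfl⟩

theorem homologyMap_cls (φ : K ⟶ L) (hk : c.next j = k) (z : LinearMap.ker (K.d j k).hom)
    (z' : LinearMap.ker (L.d j k).hom) (h : φ.f j z.1 = z'.1) :
    HomologicalComplex.homologyMap φ j (cls hk z) = cls hk z' := by
  obtain ⟨x, hx⟩ := exists_cycles hk z.1 z.2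
  rw [cls_eq_homologyπ hk z x hx, ← ConcreteCategory.comp_apply,
    HomologicalComplex.homologyπ_naturality, ConcreteCategory.comp_apply]
  refine (cls_eq_homologyπ hk z' _ ?_).symm
  rw [← ConcreteCategory.comp_apply, HomologicalComplex.cyclesMap_i, ConcreteCategory.comp_apply,
    hx, h]

theorem cls_eq_zero_iff (hi : c.prev j = i) (hk : c.next j = k)
    (z : LinearMap.ker (K.d j k).hom) :
    cls hk z = 0 ↔ z.1 ∈ LinearMap.range (K.d i j).hom := by
  obtain ⟨x, hx⟩ := exists_cycles hk z.1 z.2
  rw [cls_eq_homologyπ hk z x hx, ← hx]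
  have ex : (ShortComplex.mk _ _ (K.toCycles_comp_homologyπ i j)).Exact :=
    ShortComplex.exact_of_g_is_cokernel _ (K.homologyIsCokernel i j hi)
  rw [ShortComplex.moduleCat_exact_iff] at ex
  constructor
  · intro h
    obtain ⟨y, hy⟩ := ex x h
    exact ⟨y, by
      rw [← hy]
      exact (ConcreteCategory.congr_hom (K.toCycles_i i j) y).symm⟩
  · rintro ⟨y, hy⟩
    have : x = K.toCycles i j y := by
      apply iCycles_injective
      rw [← ConcreteCategory.comp_apply, K.toCycles_i]
      exact hy.symm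
    rw [this, ← ConcreteCategory.comp_apply, K.toCycles_comp_homologyπ]
    rfl

theorem surjective_homologyMap_iff (φ : K ⟶ L) (hi : c.prev j = i) (hk : c.next j = k) :
    Function.Surjective (HomologicalComplex.homologyMap φ j) ↔
      ∀ z' : L.X j, L.d j k z' = 0 →
        ∃ (z : K.X j) (y : L.X i), K.d j k z = 0 ∧ φ.f j z = z' + L.d i j y := by
  constructor
  · intro h z' hz'
    obtain ⟨a, ha⟩ := h (cls hk ⟨z', hz'⟩)
    obtain ⟨⟨z, hz⟩, rfl⟩ := cls_surjective hk a
    have hz2 : L.d j k (φ.f j z) = 0 := by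
      rw [← ConcreteCategory.comp_apply, φ.comm, ConcreteCategory.comp_apply, show K.d j k z = 0 from hz,
        map_zero]
    rw [homologyMap_cls φ hk _ ⟨φ.f j z, hz2⟩ rfl, ← sub_eq_zero, ← map_sub,
      cls_eq_zero_iff hi hk] at ha
    obtain ⟨y, hy⟩ := ha
    have hy' : L.d i j y = φ.f j z - z' := hy
    exact ⟨z, y, hz, by rw [hy']; abel⟩
  · intro h a
    obtain ⟨⟨z', hz'⟩, rfl⟩ := cls_surjective hk a
    obtain ⟨z, y, hz, he⟩ := h z' hz'
    have hz2 : L.d j k (φ.f j z) = 0 := by
      rw [← ConcreteCategory.comp_apply, φ.comm, ConcreteCategory.comp_apply, hz, map_zero]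
    refine ⟨cls hk ⟨z, hz⟩, ?_⟩
    rw [homologyMap_cls φ hk _ ⟨φ.f j z, hz2⟩ rfl, ← sub_eq_zero, ← map_sub, cls_eq_zero_iff hi hk]
    refine ⟨y, ?_⟩
    show L.d i j y = φ.f j z - z'
    rw [he]; abel

theorem injective_homologyMap_iff (φ : K ⟶ L) (hi : c.prev j = i) (hk : c.next j = k) :
    Function.Injective (HomologicalComplex.homologyMap φ j) ↔
      ∀ z : K.X j, K.d j k z = 0 →
        ∀ y : L.X i, L.d i j y = φ.f j z → ∃ y' : K.X i, K.d i j y' = z := by
  constructor
  · intro h z hz y hy
    have hz2 : L.d j k (φ.f j z) = 0 := by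
      rw [← ConcreteCategory.comp_apply, φ.comm, ConcreteCategory.comp_apply, hz, map_zero]
    have h0 : cls hk ⟨z, hz⟩ = 0 := by
      apply h
      rw [map_zero, homologyMap_cls φ hk _ ⟨φ.f j z, hz2⟩ rfl, cls_eq_zero_iff hi hk]
      exact ⟨y, hy⟩
    rw [cls_eq_zero_iff hi hk] at h0
    exact h0
  · intro h
    rw [injective_iff_map_eq_zero]
    intro a ha
    obtain ⟨⟨z, hz⟩, rfl⟩ := cls_surjective hk a
    have hz2 : L.d j k (φ.f j z) = 0 := by
      rw [← ConcreteCategory.comp_apply, φ.comm, ConcreteCategory.comp_apply, show K.d j k z = 0 from hz,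
        map_zero]
    rw [homologyMap_cls φ hk _ ⟨φ.f j z, hz2⟩ rfl, cls_eq_zero_iff hi hk] at ha
    obtain ⟨y, hy⟩ := ha
    rw [cls_eq_zero_iff hi hk]
    exact h z hz y hy

theorem isZero_homology_iff (hi : c.prev j = i) (hk : c.next j = k) :
    IsZero (K.homology j) ↔ ∀ z : K.X j, K.d j k z = 0 → ∃ y : K.X i, K.d i j y = z := by
  rw [ModuleCat.isZero_iff_subsingleton]
  constructor
  · intro h z hz
    exact (cls_eq_zero_iff hi hk ⟨z, hz⟩).1 (Subsingleton.elim _ _)
  · intro h
    refine ⟨fun a b => ?_⟩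
    have hzero : ∀ a : K.homology j, a = 0 := fun a => by
      obtain ⟨z, rfl⟩ := cls_surjective hk a
      rw [cls_eq_zero_iff hi hk]
      exact h z.1 z.2
    rw [hzero a, hzero b]

/-- Homology as cycles modulo boundaries. -/
noncomputable def homologyEquiv (hi : c.prev j = i) (hk : c.next j = k) :
    (LinearMap.ker (K.d j k).hom ⧸
        (LinearMap.range (K.d i j).hom).submoduleOf (LinearMap.ker (K.d j k).hom)) ≃ₗ[R]
      K.homology j :=
  (Submodule.quotEquivOfEq _ _ (by
      ext z
      exact (cls_eq_zero_iff hi hk z).symm)).trans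
    ((cls hk).quotKerEquivOfSurjective (cls_surjective hk))

theorem homologyEquiv_mk (hi : c.prev j = i) (hk : c.next j = k)
    (z : LinearMap.ker (K.d j k).hom) :
    homologyEquiv hi hk (Submodule.Quotient.mk z) = cls hk z := rfl

end Groth.Agent.Lib.FlatCx.Elem
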