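import Mathlib.RingTheory.Spectrum.Prime.FreeLocus
import Mathlib.RingTheory.Spectrum.Prime.Module
import Mathlib.RingTheory.LocalRing.Module
import Mathlib.RingTheory.LocalProperties.Reduced
import Mathlib.RingTheory.Ideal.MinimalPrime.Basic
import Mathlib.Topology.Semicontinuity.Basic
import Mathlib.RingTheory.Flat.Localization

/-!
# Fibre dimensions of finite modules
-/

universe u

open TensorProduct

namespace Groth.Agent.Lib.FlatCx.Rank

variable {A : Type u} [CommRing A] (N : Type u) [AddCommGroup N] [Module A N]

/-- `dim_{k(x)} (k(x) ⊗ N)` -/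
noncomputable def fdim (x : PrimeSpectrum A) : ℕ :=
  Module.finrank x.asIdeal.ResidueField (x.asIdeal.ResidueField ⊗[A] N)

theorem fdim_congr {N' : Type u} [AddCommGroup N'] [Module A N'] (e : N ≃ₗ[A] N') :
    fdim (A := A) N = fdim (A := A) N' :=
  funext fun x => (e.baseChange A x.asIdeal.ResidueField).finrank_eq

theorem fdim_eq_rankAtStalk [Module.Finite A N] [Module.Flat A N] (x : PrimeSpectrum A) :
    fdim N x = Module.rankAtStalk N x :=
  (Module.rankAtStalk_eq (M := N) x).symm

theorem isLocallyConstant_fdim [Module.FinitePresentation A N] [Module.Flat A N] :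
    IsLocallyConstant (fdim (A := A) N) := by
  rw [show fdim (A := A) N = Module.rankAtStalk N from funext (fdim_eq_rankAtStalk N)]
  exact Module.isLocallyConstant_rankAtStalk

/-- A finite module is generated by `fdim N x` elements near `x`. -/
theorem exists_generators_near [Module.Finite A N] (x : PrimeSpectrum A) :
    ∃ g : (Fin (fdim N x) → A) →ₗ[A] N,
      x ∉ Module.support A (N ⧸ LinearMap.range g) := by
  classical
  let k := x.asIdeal.ResidueField
  have hspan : Submodule.span k (Set.range (TensorProduct.mk A k N 1)) = ⊤ := by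
    rw [eq_top_iff]
    rintro ξ -
    induction ξ using TensorProduct.induction_on with
    | zero => exact zero_mem _
    | tmul a n =>
      rw [← mul_one a, ← smul_eq_mul, ← TensorProduct.smul_tmul']
      exact Submodule.smul_mem _ _ (Submodule.subset_span ⟨n, rfl⟩)
    | add a b ha hb => exact add_mem ha hb
  obtain ⟨t, hts, htspan, htli⟩ := exists_linearIndependent k (Set.range (TensorProduct.mk A k N 1))
  rw [hspan] at htspan
  let b : Module.Basis t k (k ⊗[A] N) := Module.Basis.mk htli (by rw [Subtype.range_coe, htspan])
  have : Fintype t := FiniteDimensional.fintypeBasisIndex b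
  have hcard : Fintype.card t = fdim N x := (Module.finrank_eq_card_basis b).symm
  choose n hn using fun i : t => hts i.2
  let e : Fin (fdim N x) ≃ t := (Fintype.equivFinOfCardEq hcard).symm
  refine ⟨Fintype.linearCombination A (fun i => n (e i)), ?_⟩
  rw [Module.mem_support_iff_nontrivial_residueField_tensorProduct, not_nontrivial_iff_subsingleton]
  refine ⟨fun a c => ?_⟩
  suffices ∀ a : k ⊗[A] (N ⧸ LinearMap.range (Fintype.linearCombination A fun i => n (e i))), a = 0 by
    rw [this a, this c]
  intro a
  obtain ⟨ξ, rfl⟩ := LinearMap.lTensor_surjective k (Submodule.mkQ_surjective _) a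
  rw [← LinearMap.baseChange_eq_ltensor]
  have hξ : ξ ∈ Submodule.span k (Set.range b) := by rw [b.span_eq]; trivial
  induction hξ using Submodule.span_induction with
  | mem y hy =>
    obtain ⟨i, rfl⟩ := hy
    have : (b i : k ⊗[A] N) = 1 ⊗ₜ n i := by rw [Module.Basis.coe_mk]; exact (hn i).symm
    rw [this, LinearMap.baseChange_tmul]
    have h0 : (LinearMap.range (Fintype.linearCombination A fun j => n (e j))).mkQ (n i) = 0 := by
      rw [Submodule.mkQ_apply, Submodule.Quotient.mk_eq_zero]
      exact ⟨Pi.single (e.symm i) 1, by
        simp⟩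
    rw [h0, TensorProduct.tmul_zero]
  | zero => rw [map_zero]
  | add y z _ _ hy hz => rw [map_add, hy, hz, add_zero]
  | smul r y _ hy => rw [map_smul, hy, smul_zero]

theorem fdim_le_of_generators {d : ℕ} (g : (Fin d → A) →ₗ[A] N) (y : PrimeSpectrum A)
    [Module.Finite A N] (hy : y ∉ Module.support A (N ⧸ LinearMap.range g)) :
    fdim N y ≤ d ∧ Function.Surjective (g.baseChange y.asIdeal.ResidueField) := by
  rw [Module.mem_support_iff_nontrivial_residueField_tensorProduct, not_nontrivial_iff_subsingleton] at hy
  have hsurj : Function.Surjective (g.baseChange y.asIdeal.ResidueField) := by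
    intro ξ
    exact (_root_.lTensor_exact y.asIdeal.ResidueField (LinearMap.exact_map_mkQ_range g)
      (Submodule.mkQ_surjective _) ξ).1 (Subsingleton.elim _ _)
  refine ⟨?_, hsurj⟩
  have : Nontrivial A := ⟨⟨0, 1, fun h => y.isPrime.ne_top ((Ideal.eq_top_iff_one _).2 (h ▸ zero_mem _))⟩⟩
  refine (LinearMap.finrank_le_finrank_of_surjective hsurj).trans ?_
  rw [Module.finrank_baseChange, Module.finrank_fin_fun]

theorem upperSemicontinuous_fdim [Module.Finite A N] :
    UpperSemicontinuous (fdim (A := A) N) := by
  rw [upperSemicontinuous_iff_isOpen_preimage]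
  intro y
  rw [isOpen_iff_forall_mem_open]
  intro x hx
  obtain ⟨g, hg⟩ := exists_generators_near N x
  refine ⟨(Module.support A (N ⧸ LinearMap.range g))ᶜ, fun z hz => ?_,
    Module.isClosed_support.isOpen_compl, hg⟩
  exact lt_of_le_of_lt (fdim_le_of_generators N g z hz).1 hx

/-- over a reduced local ring, a finite module whose fibre dimensions at the minimal primes are those
at the closed point is free -/
theorem free_of_fdim_minimalPrimes [IsLocalRing A] [IsReduced A] [Module.Finite A N]
    (h : ∀ x : PrimeSpectrum A, x.asIdeal ∈ minimalPrimes A →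
      fdim N x = fdim N (IsLocalRing.closedPoint A)) : Module.Free A N := by
  obtain ⟨g, hg⟩ := exists_generators_near N (IsLocalRing.closedPoint A)
  have hnot : ∀ y, y ∉ Module.support A (N ⧸ LinearMap.range g) := fun y hy =>
    hg (Module.mem_support_mono (IsLocalRing.le_maximalIdeal y.isPrime.ne_top) hy)
  have hsurj : Function.Surjective g := by
    rw [← LinearMap.range_eq_top, ← Submodule.Quotient.subsingleton_iff]
    rw [← Module.support_eq_empty_iff (R := A)]
    exact Set.eq_empty_of_forall_notMem hnot
  have hinj : Function.Injective g := by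
    rw [injective_iff_map_eq_zero]
    intro z hz
    funext i
    rw [Pi.zero_apply, ← Ideal.mem_bot,
      ← (Ideal.isRadical_bot (R := A)).radical, ← Ideal.sInf_minimalPrimes, Ideal.mem_sInf]
    intro q hq
    have hqp : q.IsPrime := hq.1.1
    let x : PrimeSpectrum A := ⟨q, hqp⟩
    obtain ⟨-, hs⟩ := fdim_le_of_generators N g x (hnot x)
    have hdim : Module.finrank q.ResidueField (q.ResidueField ⊗[A] (Fin (fdim N (IsLocalRing.closedPoint A)) → A)) =
        Module.finrank q.ResidueField (q.ResidueField ⊗[A] N) := by
      rw [Module.finrank_baseChange, Module.finrank_fin_fun]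
      exact (h x hq).symm
    have hi := ((LinearMap.injective_iff_surjective_of_finrank_eq_finrank hdim).2 hs)
    have h0 : (1 : q.ResidueField) ⊗ₜ[A] z = 0 := hi (by
      rw [map_zero, LinearMap.baseChange_tmul, hz, TensorProduct.tmul_zero])
    have h1 := congrArg (LinearMap.lTensor q.ResidueField (LinearMap.proj i)) h0
    rw [map_zero, LinearMap.lTensor_tmul] at h1
    have h2 := congrArg (TensorProduct.rid A q.ResidueField) h1
    rw [map_zero, TensorProduct.rid_tmul, Algebra.smul_def, mul_one] at h2
    exact Ideal.algebraMap_residueField_eq_zero.1 h2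
  exact Module.Free.of_equiv (LinearEquiv.ofBijective g ⟨hinj, hsurj⟩)

theorem fdim_baseChange (B : Type u) [CommRing B] [Algebra A B] (y : PrimeSpectrum B) :
    fdim (B ⊗[A] N) y = fdim N (PrimeSpectrum.comap (algebraMap A B) y) := by
  let x := PrimeSpectrum.comap (algebraMap A B) y
  let φ : x.asIdeal.ResidueField →+* y.asIdeal.ResidueField :=
    Ideal.ResidueField.map x.asIdeal y.asIdeal (algebraMap A B) rfl
  let : Algebra x.asIdeal.ResidueField y.asIdeal.ResidueField := φ.toAlgebra
  have : IsScalarTower A x.asIdeal.ResidueField y.asIdeal.ResidueField :=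
    .of_algebraMap_eq fun a => by
      exact (((Ideal.ResidueField.map_algebraMap x.asIdeal y.asIdeal (algebraMap A B) rfl a)).trans
        (IsScalarTower.algebraMap_apply A B y.asIdeal.ResidueField a).symm).symm
  show Module.finrank _ _ = Module.finrank _ _
  rw [(AlgebraTensorModule.cancelBaseChange A B y.asIdeal.ResidueField y.asIdeal.ResidueField N).finrank_eq,
    ← (AlgebraTensorModule.cancelBaseChange A x.asIdeal.ResidueField y.asIdeal.ResidueField y.asIdeal.ResidueField N).finrank_eq,
    Module.finrank_baseChange]

/-- over a reduced ring, a finite module with fibre dimension invariant under specialization is flat -/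
theorem flat_of_fdim_eq_of_le [IsReduced A] [Module.Finite A N]
    (h : ∀ x y : PrimeSpectrum A, x ≤ y → fdim N x = fdim N y) : Module.Flat A N := by
  refine Module.flat_of_localized_maximal N fun m _ => ?_
  have : IsReduced (Localization.AtPrime m) := inferInstance
  have hf : Module.Free (Localization.AtPrime m) (Localization.AtPrime m ⊗[A] N) := by
    refine free_of_fdim_minimalPrimes _ fun x _ => ?_
    rw [fdim_baseChange, fdim_baseChange]
    exact h _ _ (Ideal.comap_mono (IsLocalRing.le_maximalIdeal x.isPrime.ne_top))
  have : Module.Free (Localization.AtPrime m) (LocalizedModule m.primeCompl N) :=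
    Module.Free.of_equiv (LocalizedModule.equivTensorProduct m.primeCompl N).symm
  exact Module.Flat.trans A (Localization.AtPrime m) _

end Groth.Agent.Lib.FlatCx.Rank
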