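import Groth.Agent.Lib.FlatCx.BaseChange
import Groth.Agent.Lib.FlatCx.Rank

/-!
# `dRank` and the fibre dimensions of `Q_p`
-/

universe u

open CategoryTheory CategoryTheory.Limits TensorProduct
open Groth.Agent.Lib.FlatCx.Elem Groth.Agent.Lib.FlatCx.Basic Groth.Agent.Lib.FlatCx.HKer
open Groth.Agent.Lib.FlatCx.BaseChange Groth.Agent.Lib.FlatCx.Rank

namespace Groth.Agent.Lib.FlatCx.DRank

variable {A : Type u} [CommRing A] (P : ChainComplex (ModuleCat.{u} A) ℤ)

theorem dRank_add (p q : ℤ) (hpq : q + 1 = p) [Module.Finite A (P.X p)] [Module.Finite A (P.X q)]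
    (x : PrimeSpectrum A) :
    CohIII.dRank P p x + fdim (P.X q) x = fdim (Q P p) x + fdim (Q P q) x := by
  let K := x.asIdeal.ResidueField
  show Module.finrank K ((bc P K).homology p) + _ = _
  rw [(homologyKerEquiv (bc P K) hpq).finrank_eq]
  show _ + Module.finrank K (K ⊗[A] P.X q) = Module.finrank K (K ⊗[A] Q P p) + Module.finrank K (K ⊗[A] Q P q)
  rw [← (Xequiv P K q).finrank_eq, ← (QEquiv P K p).finrank_eq, ← (QEquiv P K q).finrank_eq]
  have h := Ker.finrank_ker_add_finrank (Dbar (bc P K) p q)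
  rwa [(Submodule.quotEquivOfEq _ _ (range_Dbar (bc P K) hpq)).finrank_eq] at h

section Noetherian

variable [IsNoetherianRing A] (hP : ∀ i, Module.Finite A (P.X i) ∧ Module.Flat A (P.X i))

include hP

theorem finitePresentation_X (i : ℤ) : Module.FinitePresentation A (P.X i) :=
  haveI := (hP i).1
  Module.finitePresentation_of_finite A _

theorem finitePresentation_Q (i : ℤ) : Module.FinitePresentation A (Q P i) :=
  haveI := (hP i).1
  Module.finitePresentation_of_finite A _

theorem isLocallyConstant_X (i : ℤ) : IsLocallyConstant (fdim (A := A) (P.X i)) :=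
  haveI := finitePresentation_X P hP i
  haveI := (hP i).2
  isLocallyConstant_fdim _

theorem upperSemicontinuous_Q (i : ℤ) : UpperSemicontinuous (fdim (A := A) (Q P i)) :=
  haveI := (hP i).1
  upperSemicontinuous_fdim _

theorem dRank_add' (p q : ℤ) (hpq : q + 1 = p) (x : PrimeSpectrum A) :
    CohIII.dRank P p x + fdim (P.X q) x = fdim (Q P p) x + fdim (Q P q) x :=
  haveI := (hP p).1
  haveI := (hP q).1
  dRank_add P p q hpq x

theorem eventually_Q_le (i : ℤ) (x : PrimeSpectrum A) :
    ∀ᶠ z in nhds x, fdim (Q P i) z ≤ fdim (Q P i) x :=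
  (upperSemicontinuous_Q P hP i x (fdim (Q P i) x + 1) (Nat.lt_succ_self _)).mono
    fun _ hz => Nat.le_of_lt_succ hz

theorem upperSemicontinuous_dRank (p : ℤ) : UpperSemicontinuous (CohIII.dRank P p) := by
  intro x y hy
  filter_upwards [eventually_Q_le P hP p x, eventually_Q_le P hP (p - 1) x,
    (isLocallyConstant_X P hP (p - 1)).eventually_eq x] with z h1 h2 h3
  have e1 := dRank_add' P hP p (p - 1) (by omega) x
  have e2 := dRank_add' P hP p (p - 1) (by omega) z
  omega

/-- near a point where `dRank P p` is constant, so are the fibre dimensions of `Q_p` and `Q_q` -/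
theorem eventually_Q_eq (p q : ℤ) (hpq : q + 1 = p) (x : PrimeSpectrum A)
    (h : ∀ᶠ z in nhds x, CohIII.dRank P p z = CohIII.dRank P p x) :
    ∀ᶠ z in nhds x, fdim (Q P p) z = fdim (Q P p) x ∧ fdim (Q P q) z = fdim (Q P q) x := by
  filter_upwards [h, eventually_Q_le P hP p x, eventually_Q_le P hP q x,
    (isLocallyConstant_X P hP q).eventually_eq x] with z h0 h1 h2 h3
  have e1 := dRank_add' P hP p q hpq x
  have e2 := dRank_add' P hP p q hpq z
  omega

theorem eventually_dRank_eq (p q : ℤ) (hpq : q + 1 = p) (x : PrimeSpectrum A)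
    (h1 : ∀ᶠ z in nhds x, fdim (Q P p) z = fdim (Q P p) x)
    (h2 : ∀ᶠ z in nhds x, fdim (Q P q) z = fdim (Q P q) x) :
    ∀ᶠ z in nhds x, CohIII.dRank P p z = CohIII.dRank P p x := by
  filter_upwards [h1, h2, (isLocallyConstant_X P hP q).eventually_eq x] with z h1 h2 h3
  have e1 := dRank_add' P hP p q hpq x
  have e2 := dRank_add' P hP p q hpq z
  omega

theorem exact_iff_flat (p : ℤ) :
    ((CohIII.TFun P p).PreservesMonomorphisms ∧ (CohIII.TFun P p).PreservesEpimorphisms) ↔
      (Module.Flat A (Q P p) ∧ Module.Flat A (Q P (p - 1))) := by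
  have := (hP (p - 1)).2
  rw [preservesMono_iff P p (p - 1) (by omega), preservesEpi_iff P p (p - 1) (by omega)]

theorem isLocallyConstant_dRank_of_exact (p : ℤ)
    (h : (CohIII.TFun P p).PreservesMonomorphisms ∧ (CohIII.TFun P p).PreservesEpimorphisms) :
    IsLocallyConstant (CohIII.dRank P p) := by
  obtain ⟨h1, h2⟩ := (exact_iff_flat P hP p).1 h
  have := finitePresentation_Q P hP p
  have := finitePresentation_Q P hP (p - 1)
  rw [IsLocallyConstant.iff_eventually_eq]
  exact fun x => eventually_dRank_eq P hP p (p - 1) (by omega) x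
    ((isLocallyConstant_fdim (Q P p)).eventually_eq x)
    ((isLocallyConstant_fdim (Q P (p - 1))).eventually_eq x)

theorem exact_of_isLocallyConstant_dRank [IsReduced A] (p : ℤ)
    (h : IsLocallyConstant (CohIII.dRank P p)) :
    (CohIII.TFun P p).PreservesMonomorphisms ∧ (CohIII.TFun P p).PreservesEpimorphisms := by
  have := (hP p).1
  have := (hP (p - 1)).1
  have key : ∀ x y : PrimeSpectrum A, x ≤ y →
      fdim (Q P p) x = fdim (Q P p) y ∧ fdim (Q P (p - 1)) x = fdim (Q P (p - 1)) y := fun x y hxy =>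
    (eventually_Q_eq P hP p (p - 1) (by omega) y (h.eventually_eq y)).filter_mono
      ((PrimeSpectrum.le_iff_specializes x y).1 hxy) |>.self_of_nhds
  exact (exact_iff_flat P hP p).2 ⟨flat_of_fdim_eq_of_le _ fun x y hxy => (key x y hxy).1,
    flat_of_fdim_eq_of_le _ fun x y hxy => (key x y hxy).2⟩

omit hP in
theorem isConstructible_Ici {f : PrimeSpectrum A → ℕ} (hf : UpperSemicontinuous f) (n : ℕ) :
    Topology.IsConstructible (f ⁻¹' Set.Iio n) :=
  (TopologicalSpace.NoetherianSpace.isCompact (f ⁻¹' Set.Iio n)).isConstructible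
    (upperSemicontinuous_iff_isOpen_preimage.1 hf n)

end Noetherian

end Groth.Agent.Lib.FlatCx.DRank
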