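import Groth.Prelude.Def_ega3
import Groth.Agent.Lib.FlatCx.Elem
import Mathlib.RingTheory.Flat.Equalizer
import Mathlib.LinearAlgebra.TensorProduct.RightExactness
import Mathlib.Algebra.Category.ModuleCat.EpiMono

/-!
# The functors `T_p(M) = H_p(P ⊗ M)` for a chain complex of flat modules

`Q P p` is the cokernel of `P_{p+1} → P_p`.
-/

universe u

open CategoryTheory CategoryTheory.Limits TensorProduct
open Groth.Agent.Lib.FlatCx.Elem

namespace Groth.Agent.Lib.FlatCx.Basic

variable {A : Type u} [CommRing A] (P : ChainComplex (ModuleCat.{u} A) ℤ)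

/-- the differential as a linear map -/
abbrev D (p q : ℤ) : P.X p →ₗ[A] P.X q := (P.d p q).hom

/-- the boundaries -/
abbrev Bd (p : ℤ) : Submodule A (P.X p) := LinearMap.range (D P (p + 1) p)

/-- the cokernel of the incoming differential -/
abbrev Q (p : ℤ) : Type u := P.X p ⧸ Bd P p

theorem D_D (p q r : ℤ) (x : P.X p) : D P q r (D P p q x) = 0 := by
  show (P.d p q ≫ P.d q r).hom x = 0
  rw [P.d_comp_d]; rfl

theorem D_comp_D (p q r : ℤ) : D P q r ∘ₗ D P p q = 0 :=
  LinearMap.ext fun x => D_D P p q r x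

theorem prev_eq (p : ℤ) : (ComplexShape.down ℤ).prev p = p + 1 := ChainComplex.prev ℤ p

theorem next_eq {p q : ℤ} (h : q + 1 = p) : (ComplexShape.down ℤ).next p = q :=
  (ComplexShape.down ℤ).next_eq' h

theorem next_eq' (p : ℤ) : (ComplexShape.down ℤ).next p = p - 1 := next_eq (by omega)

theorem tensorObj_d (M : ModuleCat.{u} A) (p q : ℤ) (x : P.X p ⊗[A] M) :
    (CohIII.tensorObj P M).d p q x = (D P p q).rTensor M x := rfl

theorem tensorMap_f {M N : ModuleCat.{u} A} (g : M ⟶ N) (p : ℤ) (x : P.X p ⊗[A] M) :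
    (CohIII.tensorMap P g).f p x = g.hom.lTensor (P.X p) x := rfl

theorem TFun_map {M N : ModuleCat.{u} A} (g : M ⟶ N) (p : ℤ) :
    (CohIII.TFun P p).map g = HomologicalComplex.homologyMap (CohIII.tensorMap P g) p := rfl

section Tensor

variable (M : Type u) [AddCommGroup M] [Module A M]

theorem exact_mkQ_rTensor (p : ℤ) :
    Function.Exact ((D P (p + 1) p).rTensor M) ((Bd P p).mkQ.rTensor M) :=
  _root_.rTensor_exact M (LinearMap.exact_map_mkQ_range _) (Submodule.mkQ_surjective _)

theorem mkQ_rTensor_eq_zero_iff (p : ℤ) (x : P.X p ⊗[A] M) :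
    (Bd P p).mkQ.rTensor M x = 0 ↔ ∃ y : P.X (p + 1) ⊗[A] M, (D P (p + 1) p).rTensor M y = x :=
  exact_mkQ_rTensor P M p x

theorem mkQ_rTensor_surjective (p : ℤ) : Function.Surjective ((Bd P p).mkQ.rTensor M) :=
  LinearMap.rTensor_surjective _ (Submodule.mkQ_surjective _)

theorem D_rTensor_D_rTensor (p q r : ℤ) (x : P.X p ⊗[A] M) :
    (D P q r).rTensor M ((D P p q).rTensor M x) = 0 := by
  rw [← LinearMap.comp_apply, ← LinearMap.rTensor_comp, D_comp_D, LinearMap.rTensor_zero]
  rfl

end Tensor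

theorem TFun_map_surjective_iff {M N : ModuleCat.{u} A} (g : M ⟶ N) (p q : ℤ) (hpq : q + 1 = p) :
    Function.Surjective ((CohIII.TFun P p).map g).hom ↔
      ∀ z' : P.X p ⊗[A] N, (D P p q).rTensor N z' = 0 →
        ∃ (z : P.X p ⊗[A] M) (y : P.X (p + 1) ⊗[A] N), (D P p q).rTensor M z = 0 ∧
          g.hom.lTensor (P.X p) z = z' + (D P (p + 1) p).rTensor N y :=
  surjective_homologyMap_iff (CohIII.tensorMap P g) (prev_eq p) (next_eq hpq)

theorem TFun_map_injective_iff {M N : ModuleCat.{u} A} (g : M ⟶ N) (p q : ℤ) (hpq : q + 1 = p) :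
    Function.Injective ((CohIII.TFun P p).map g).hom ↔
      ∀ z : P.X p ⊗[A] M, (D P p q).rTensor M z = 0 →
        ∀ y : P.X (p + 1) ⊗[A] N, (D P (p + 1) p).rTensor N y = g.hom.lTensor (P.X p) z →
          ∃ y' : P.X (p + 1) ⊗[A] M, (D P (p + 1) p).rTensor M y' = z :=
  injective_homologyMap_iff (CohIII.tensorMap P g) (prev_eq p) (next_eq hpq)

section Criteria

variable {M' M M'' : Type u} [AddCommGroup M'] [Module A M'] [AddCommGroup M] [Module A M]
  [AddCommGroup M''] [Module A M'']

theorem lTensor_rTensor {N N' : Type u} [AddCommGroup N] [Module A N] [AddCommGroup N']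
    [Module A N'] (φ : N →ₗ[A] N') (g : M →ₗ[A] M'') (x : N ⊗[A] M) :
    g.lTensor N' (φ.rTensor M x) = φ.rTensor M'' (g.lTensor N x) := by
  rw [← LinearMap.comp_apply, ← LinearMap.comp_apply, LinearMap.lTensor_comp_rTensor,
    LinearMap.rTensor_comp_lTensor]

/-- For an injection `f`, `T_p(f)` is injective iff `Q_p ⊗ f` is injective. -/
theorem injective_iff (p q : ℤ) (hpq : q + 1 = p) [Module.Flat A (P.X q)]
    (f : M' →ₗ[A] M) (hf : Function.Injective f) :
    Function.Injective ((CohIII.TFun P p).map (ModuleCat.ofHom f : ModuleCat.of A M' ⟶ ModuleCat.of A M)).hom ↔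
      Function.Injective (f.lTensor (Q P p)) := by
  refine Iff.trans (TFun_map_injective_iff P _ p q hpq) ?_
  constructor
  · intro h
    rw [injective_iff_map_eq_zero]
    intro ξ hξ
    obtain ⟨z, rfl⟩ := mkQ_rTensor_surjective P M' p ξ
    rw [lTensor_rTensor, mkQ_rTensor_eq_zero_iff] at hξ
    obtain ⟨y, hy⟩ := hξ
    have hz : (D P p q).rTensor M' z = 0 := by
      apply Module.Flat.lTensor_preserves_injective_linearMap (M := P.X q) f hf
      rw [map_zero, lTensor_rTensor, ← hy, D_rTensor_D_rTensor]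
    obtain ⟨y', hy'⟩ := h z hz y hy
    exact (mkQ_rTensor_eq_zero_iff P M' p z).2 ⟨y', hy'⟩
  · intro h z _ y hy
    apply (mkQ_rTensor_eq_zero_iff P M' p z).1
    apply h
    rw [map_zero, lTensor_rTensor, mkQ_rTensor_eq_zero_iff]
    exact ⟨y, hy⟩

/-- For a short exact sequence `0 → M' → M → M'' → 0`, the map `T_p(M) → T_p(M'')` is surjective
iff `Q_q ⊗ M' → Q_q ⊗ M` is injective, `q + 1 = p`. -/
theorem surjective_iff (p q : ℤ) (hpq : q + 1 = p) [Module.Flat A (P.X q)]
    (f : M' →ₗ[A] M) (g : M →ₗ[A] M'') (hf : Function.Injective f) (hg : Function.Surjective g)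
    (hfg : Function.Exact f g) :
    Function.Surjective ((CohIII.TFun P p).map (ModuleCat.ofHom g : ModuleCat.of A M ⟶ ModuleCat.of A M'')).hom ↔
      Function.Injective (f.lTensor (Q P q)) := by
  refine Iff.trans (TFun_map_surjective_iff P _ p q hpq) ?_
  subst hpq
  constructor
  · intro h
    rw [injective_iff_map_eq_zero]
    intro ξ hξ
    obtain ⟨w, rfl⟩ := mkQ_rTensor_surjective P M' q ξ
    rw [lTensor_rTensor, mkQ_rTensor_eq_zero_iff] at hξ
    obtain ⟨y, hy⟩ := hξ
    have hz'' : (D P (q + 1) q).rTensor M'' (g.lTensor _ y) = 0 := by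
      rw [← lTensor_rTensor, hy, ← LinearMap.comp_apply, ← LinearMap.lTensor_comp,
        hfg.linearMap_comp_eq_zero, LinearMap.lTensor_zero]
      rfl
    obtain ⟨z, u, hz, he⟩ := h (g.lTensor _ y) hz''
    have hz0 : (D P (q + 1) q).rTensor M z = 0 := hz
    have he' : g.lTensor (P.X (q + 1)) z =
        g.lTensor (P.X (q + 1)) y + (D P (q + 1 + 1) (q + 1)).rTensor M'' u := he
    obtain ⟨v, rfl⟩ := LinearMap.lTensor_surjective (P.X (q + 1 + 1)) hg u
    have hk : g.lTensor (P.X (q + 1)) (y + (D P (q + 1 + 1) (q + 1)).rTensor M v - z) = 0 := by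
      rw [map_sub, map_add, he', lTensor_rTensor, sub_self]
    obtain ⟨y', hy'⟩ := (_root_.lTensor_exact (P.X (q + 1)) hfg hg _).1 hk
    refine (mkQ_rTensor_eq_zero_iff P M' q w).2 ⟨y', ?_⟩
    apply Module.Flat.lTensor_preserves_injective_linearMap (M := P.X q) f hf
    rw [lTensor_rTensor, hy', map_sub, map_add, hy, D_rTensor_D_rTensor, hz0, add_zero, sub_zero]
  · intro h z'' hz''
    have hz0 : (D P (q + 1) q).rTensor M'' z'' = 0 := hz''
    obtain ⟨y, rfl⟩ := LinearMap.lTensor_surjective (P.X (q + 1)) hg z''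
    rw [← lTensor_rTensor] at hz0
    obtain ⟨w, hw⟩ := (_root_.lTensor_exact (P.X q) hfg hg _).1 hz0
    have hw0 : (Bd P q).mkQ.rTensor M' w = 0 := by
      apply h
      rw [map_zero, lTensor_rTensor, hw, mkQ_rTensor_eq_zero_iff]
      exact ⟨y, rfl⟩
    obtain ⟨y', hy'⟩ := (mkQ_rTensor_eq_zero_iff P M' q w).1 hw0
    refine ⟨y - f.lTensor _ y', 0, ?_, ?_⟩
    · show (D P (q + 1) q).rTensor M (y - f.lTensor _ y') = 0
      rw [map_sub, ← lTensor_rTensor, hy', hw, sub_self]
    · show g.lTensor (P.X (q + 1)) (y - f.lTensor _ y') = g.lTensor _ y + _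
      rw [map_sub, ← LinearMap.comp_apply, ← LinearMap.lTensor_comp, hfg.linearMap_comp_eq_zero,
        LinearMap.lTensor_zero, map_zero]
      simp

end Criteria

theorem map_injective_of_flat_Q (p q : ℤ) (hpq : q + 1 = p) [Module.Flat A (P.X q)]
    [Module.Flat A (Q P p)] {M N : ModuleCat.{u} A} (g : M ⟶ N) [Mono g] :
    Function.Injective ((CohIII.TFun P p).map g).hom :=
  (injective_iff P p q hpq g.hom ((ModuleCat.mono_iff_injective g).1 inferInstance)).2
    (Module.Flat.lTensor_preserves_injective_linearMap _ ((ModuleCat.mono_iff_injective g).1 inferInstance))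

theorem preservesMono_iff (p q : ℤ) (hpq : q + 1 = p) [Module.Flat A (P.X q)] :
    (CohIII.TFun P p).PreservesMonomorphisms ↔ Module.Flat A (Q P p) := by
  constructor
  · intro _
    rw [Module.Flat.iff_lTensor_preserves_injective_linearMap]
    intro N N' _ _ _ _ f hf
    have : Mono (ModuleCat.ofHom f) := (ModuleCat.mono_iff_injective _).2 hf
    exact (injective_iff P p q hpq f hf).1 ((ModuleCat.mono_iff_injective _).1 inferInstance)
  · intro _
    exact ⟨fun g _ => (ModuleCat.mono_iff_injective _).2 (map_injective_of_flat_Q P p q hpq g)⟩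

theorem preservesEpi_iff (p q : ℤ) (hpq : q + 1 = p) [Module.Flat A (P.X q)] :
    (CohIII.TFun P p).PreservesEpimorphisms ↔ Module.Flat A (Q P q) := by
  constructor
  · intro _
    rw [Module.Flat.iff_lTensor_preserves_injective_linearMap]
    intro N N' _ _ _ _ f hf
    let g := ModuleCat.ofHom (LinearMap.range f).mkQ
    have : Epi g := (ModuleCat.epi_iff_surjective _).2 (Submodule.mkQ_surjective _)
    exact (surjective_iff P p q hpq f _ hf (Submodule.mkQ_surjective _)
      (LinearMap.exact_map_mkQ_range f)).1 ((ModuleCat.epi_iff_surjective _).1 inferInstance)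
  · intro _
    refine ⟨fun {M N} g _ => (ModuleCat.epi_iff_surjective _).2 ?_⟩
    exact (surjective_iff P p q hpq _ g.hom (LinearMap.ker g.hom).subtype_injective
      ((ModuleCat.epi_iff_surjective g).1 inferInstance) (LinearMap.exact_subtype_ker_map _)).2
      (Module.Flat.lTensor_preserves_injective_linearMap _ (LinearMap.ker g.hom).subtype_injective)

theorem preservesEpi_iff_preservesMono (p q : ℤ) (hpq : q + 1 = p) [∀ i, Module.Flat A (P.X i)] :
    (CohIII.TFun P p).PreservesEpimorphisms ↔ (CohIII.TFun P q).PreservesMonomorphisms :=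
  (preservesEpi_iff P p q hpq).trans (preservesMono_iff P q (q - 1) (by omega)).symm

/-- `Q P p` is the opcycles of `P`. -/
noncomputable def opcyclesEquiv (p : ℤ) : P.opcycles p ≃ₗ[A] Q P p :=
  (P.sc p).moduleCatOpcyclesIso.toLinearEquiv ≪≫ₗ Submodule.quotEquivOfEq _ _ (by
    show LinearMap.range (P.d ((ComplexShape.down ℤ).prev p) p).hom = _
    rw [prev_eq])

end Groth.Agent.Lib.FlatCx.Basic
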