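import Groth.Agent.Lib.FlatCx.Basic
import Groth.Agent.Lib.FlatCx.Ker

/-!
# `H_p(P)` as the kernel of `Q_p → P_q`
-/

universe u

open CategoryTheory CategoryTheory.Limits TensorProduct
open Groth.Agent.Lib.FlatCx.Elem Groth.Agent.Lib.FlatCx.Basic

namespace Groth.Agent.Lib.FlatCx.HKer

variable {A : Type u} [CommRing A] (P : ChainComplex (ModuleCat.{u} A) ℤ)

/-- the differential on opcycles -/
noncomputable def Dbar (p q : ℤ) : Q P p →ₗ[A] P.X q :=
  (Bd P p).liftQ (D P p q) (by rintro _ ⟨y, rfl⟩; exact D_D P _ _ _ y)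

theorem Dbar_mk (p q : ℤ) (x : P.X p) : Dbar P p q (Submodule.Quotient.mk x) = D P p q x := rfl

theorem Dbar_comp_mkQ (p q : ℤ) : Dbar P p q ∘ₗ (Bd P p).mkQ = D P p q := rfl

theorem range_Dbar {p q : ℤ} (hpq : q + 1 = p) : LinearMap.range (Dbar P p q) = Bd P q := by
  subst hpq
  exact Submodule.range_liftQ _ _ _

/-- cycles to the kernel of `Dbar` -/
noncomputable def cyclesToKer (p q : ℤ) :
    LinearMap.ker (D P p q) →ₗ[A] LinearMap.ker (Dbar P p q) :=
  ((Bd P p).mkQ ∘ₗ (LinearMap.ker (D P p q)).subtype).codRestrict _ fun z => z.2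

theorem cyclesToKer_surjective (p q : ℤ) : Function.Surjective (cyclesToKer P p q) := by
  rintro ⟨ξ, hξ⟩
  obtain ⟨z, rfl⟩ := Submodule.Quotient.mk_surjective _ ξ
  exact ⟨⟨z, hξ⟩, rfl⟩

theorem ker_cls {p q : ℤ} (hpq : q + 1 = p) :
    LinearMap.ker (cls (K := P) (next_eq hpq)) = LinearMap.ker (cyclesToKer P p q) := by
  ext z
  rw [LinearMap.mem_ker, LinearMap.mem_ker, cls_eq_zero_iff (prev_eq p) (next_eq hpq),
    Subtype.ext_iff]
  exact (Submodule.Quotient.mk_eq_zero (Bd P p)).symm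

/-- `H_p(P) = ker (Q_p → P_q)`. -/
noncomputable def homologyKerEquiv {p q : ℤ} (hpq : q + 1 = p) :
    P.homology p ≃ₗ[A] LinearMap.ker (Dbar P p q) :=
  ((cls (K := P) (next_eq hpq)).quotKerEquivOfSurjective (cls_surjective _)).symm ≪≫ₗ
    Submodule.quotEquivOfEq _ _ (ker_cls P hpq) ≪≫ₗ
      (cyclesToKer P p q).quotKerEquivOfSurjective (cyclesToKer_surjective P p q)

theorem homologyKerEquiv_cls {p q : ℤ} (hpq : q + 1 = p) (z : LinearMap.ker (D P p q)) :
    homologyKerEquiv P hpq (cls (next_eq hpq) z) = cyclesToKer P p q z := by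
  simp only [homologyKerEquiv, LinearEquiv.trans_apply]
  rw [show ((cls (K := P) (next_eq hpq)).quotKerEquivOfSurjective (cls_surjective _)).symm
    (cls (next_eq hpq) z) = Submodule.Quotient.mk z from
    (LinearEquiv.symm_apply_eq _).2 (LinearMap.quotKerEquivOfSurjective_apply_mk _ _ _).symm]
  rw [Submodule.quotEquivOfEq_mk]
  exact LinearMap.quotKerEquivOfSurjective_apply_mk _ _ _

variable (M : ModuleCat.{u} A)

/-- `Q_p(P ⊗ M) = Q_p(P) ⊗ M` -/
noncomputable def QTensorEquiv (p : ℤ) : Q (CohIII.tensorObj P M) p ≃ₗ[A] Q P p ⊗[A] M :=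
  Submodule.quotEquivOfEq (Bd (CohIII.tensorObj P M) p) (LinearMap.ker ((Bd P p).mkQ.rTensor M))
      (SetLike.ext fun x => ((exact_mkQ_rTensor P M p) x).symm) ≪≫ₗ
    ((Bd P p).mkQ.rTensor M).quotKerEquivOfSurjective (mkQ_rTensor_surjective P M p)

theorem QTensorEquiv_mk (p : ℤ) (x : P.X p ⊗[A] M) :
    QTensorEquiv P M p (Submodule.Quotient.mk x) = (Bd P p).mkQ.rTensor M x := rfl

theorem Dbar_tensor (p q : ℤ) :
    Dbar (CohIII.tensorObj P M) p q =
      (Dbar P p q).rTensor M ∘ₗ (QTensorEquiv P M p).toLinearMap := by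
  refine Submodule.linearMap_qext _ ?_
  refine LinearMap.ext fun (x : P.X p ⊗[A] M) => ?_
  show (D P p q).rTensor M x = (Dbar P p q).rTensor M ((Bd P p).mkQ.rTensor M x)
  exact LinearMap.rTensor_comp_apply M (Dbar P p q) (Bd P p).mkQ x

/-- `T_p(M) = ker (Q_p ⊗ M → P_q ⊗ M)`. -/
noncomputable def TKerEquiv {p q : ℤ} (hpq : q + 1 = p) :
    CohIII.T P p M ≃ₗ[A] LinearMap.ker ((Dbar P p q).rTensor M) :=
  homologyKerEquiv (CohIII.tensorObj P M) hpq ≪≫ₗ
    LinearEquiv.ofSubmodules (QTensorEquiv P M p) _ _ (by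
      rw [Dbar_tensor]
      exact Submodule.map_comap_eq_of_surjective (QTensorEquiv P M p).surjective
        (LinearMap.ker ((Dbar P p q).rTensor M)))

end Groth.Agent.Lib.FlatCx.HKer
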