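import Mathlib.RingTheory.Length
import Mathlib.RingTheory.FiniteLength
import Mathlib.Algebra.Homology.ShortComplex.ModuleCat
import Mathlib.Algebra.Category.ModuleCat.EpiMono

/-!
# Half-exact functors and lengths
-/

universe u

open CategoryTheory CategoryTheory.Limits

namespace Groth.Agent.Lib.FlatCx.HalfExact

section Module

variable {R : Type u} [Ring R] {X Y Z : Type u} [AddCommGroup X] [Module R X] [AddCommGroup Y]
  [Module R Y] [AddCommGroup Z] [Module R Z] (f : X →ₗ[R] Y) (g : Y →ₗ[R] Z)

theorem length_eq_ker_add_range : Module.length R Y =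
    Module.length R (LinearMap.ker g) + Module.length R (LinearMap.range g) :=
  Module.length_eq_add_of_exact (LinearMap.ker g).subtype g.rangeRestrict
    (LinearMap.ker g).subtype_injective g.surjective_rangeRestrict
    (fun y => by simp [Subtype.ext_iff])

theorem length_le (h : Function.Exact f g) :
    Module.length R Y ≤ Module.length R X + Module.length R Z := by
  rw [length_eq_ker_add_range g, h.linearMap_ker_eq]
  exact add_le_add (Module.length_le_of_surjective f.rangeRestrict f.surjective_rangeRestrict)
    (Module.length_le_of_injective _ (LinearMap.range g).subtype_injective)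

theorem inj_surj_of_length_eq (h : Function.Exact f g) (hX : Module.length R X ≠ ⊤)
    (hZ : Module.length R Z ≠ ⊤)
    (he : Module.length R Y = Module.length R X + Module.length R Z) :
    Function.Injective f ∧ Function.Surjective g := by
  have h1 := length_eq_ker_add_range g
  rw [h.linearMap_ker_eq] at h1
  have h2 := length_eq_ker_add_range f
  have h3 : Module.length R (LinearMap.range g) + Module.length R (Z ⧸ LinearMap.range g) =
      Module.length R Z :=
    (Module.length_eq_add_of_exact (LinearMap.range g).subtype (LinearMap.range g).mkQ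
      (LinearMap.range g).subtype_injective (Submodule.mkQ_surjective _)
      (LinearMap.exact_subtype_mkQ _)).symm
  rw [← h3] at he hZ
  rw [h2] at he hX
  rw [h1] at he
  have e1 := ENat.natCast_toNat (fun t => hX (by rw [t, top_add]) : Module.length R (LinearMap.ker f) ≠ ⊤)
  have e2 := ENat.natCast_toNat (fun t => hX (by rw [t, add_top]) : Module.length R (LinearMap.range f) ≠ ⊤)
  have e3 := ENat.natCast_toNat (fun t => hZ (by rw [t, top_add]) : Module.length R (LinearMap.range g) ≠ ⊤)
  have e4 := ENat.natCast_toNat (fun t => hZ (by rw [t, add_top]) : Module.length R (Z ⧸ LinearMap.range g) ≠ ⊤)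
  rw [← e1, ← e2, ← e3, ← e4, ← Nat.cast_add, ← Nat.cast_add, ← Nat.cast_add, ← Nat.cast_add,
    Nat.cast_inj] at he
  constructor
  · rw [← LinearMap.ker_eq_bot, ← Submodule.subsingleton_iff_eq_bot,
      ← Module.length_eq_zero_iff (R := R), ← e1, Nat.cast_eq_zero]
    omega
  · rw [← LinearMap.range_eq_top, ← Submodule.Quotient.subsingleton_iff,
      ← Module.length_eq_zero_iff (R := R), ← e4, Nat.cast_eq_zero]
    omega

end Module

variable {A B : Type u} [Ring A] [Ring B] (F : ModuleCat.{u} A ⥤ ModuleCat.{u} B) [F.Additive]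

/-- `F` sends short exact sequences to sequences exact in the middle. -/
def IsHalfExact : Prop := ∀ S : ShortComplex (ModuleCat.{u} A), S.ShortExact → (S.map F).Exact

theorem exact_map (hF : IsHalfExact F) (S : ShortComplex (ModuleCat.{u} A)) (hS : S.ShortExact) :
    Function.Exact (F.map S.f).hom (F.map S.g).hom :=
  (ShortComplex.ShortExact.moduleCat_exact_iff_function_exact _).1 (hF S hS)

theorem length_map_le (hF : IsHalfExact F) (S : ShortComplex (ModuleCat.{u} A)) (hS : S.ShortExact) :
    Module.length B (F.obj S.X₂) ≤ Module.length B (F.obj S.X₁) + Module.length B (F.obj S.X₃) :=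
  length_le _ _ (exact_map F hF S hS)

theorem length_map_eq_iff (hF : IsHalfExact F) (S : ShortComplex (ModuleCat.{u} A)) (hS : S.ShortExact)
    (h1 : Module.length B (F.obj S.X₁) ≠ ⊤) (h3 : Module.length B (F.obj S.X₃) ≠ ⊤) :
    Module.length B (F.obj S.X₂) = Module.length B (F.obj S.X₁) + Module.length B (F.obj S.X₃) ↔
      (S.map F).ShortExact := by
  constructor
  · intro he
    obtain ⟨hi, hs⟩ := inj_surj_of_length_eq _ _ (exact_map F hF S hS) h1 h3 he
    exact
      { exact := hF S hS
        mono_f := (ModuleCat.mono_iff_injective _).2 hi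
        epi_g := (ModuleCat.epi_iff_surjective _).2 hs }
  · intro h
    exact Module.length_eq_add_of_exact (F.map S.f).hom (F.map S.g).hom h.moduleCat_injective_f
      h.moduleCat_surjective_g
      ((ShortComplex.ShortExact.moduleCat_exact_iff_function_exact _).1 h.exact)

/-- the short exact sequence of a submodule -/
def submoduleSeq {M : Type u} [AddCommGroup M] [Module A M] (N : Submodule A M) :
    ShortComplex (ModuleCat.{u} A) :=
  ShortComplex.mk (ModuleCat.ofHom N.subtype) (ModuleCat.ofHom N.mkQ)
    (ModuleCat.hom_ext (LinearMap.ext fun x => (Submodule.Quotient.mk_eq_zero N).2 x.2))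

theorem submoduleSeq_shortExact {M : Type u} [AddCommGroup M] [Module A M] (N : Submodule A M) :
    (submoduleSeq N).ShortExact where
  exact := (ShortComplex.ShortExact.moduleCat_exact_iff_function_exact _).2 (LinearMap.exact_subtype_mkQ N)
  mono_f := (ModuleCat.mono_iff_injective _).2 N.subtype_injective
  epi_g := (ModuleCat.epi_iff_surjective _).2 N.mkQ_surjective

omit [F.Additive] in
theorem length_zero_obj [F.PreservesZeroMorphisms] (M : ModuleCat.{u} A) [Subsingleton M] :
    Module.length B (F.obj M) = 0 :=
  Module.length_eq_zero_iff.2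
    (ModuleCat.isZero_iff_subsingleton.1 (F.map_isZero (ModuleCat.isZero_iff_subsingleton.2 inferInstance)))

/-- `ℓ(F M) ≤ d · ℓ(M)` if this holds for simple modules, and finite. -/
theorem length_le_mul (hF : IsHalfExact F) (d : ℕ)
    (hS : ∀ M : ModuleCat.{u} A, IsSimpleModule A M → Module.length B (F.obj M) ≤ d)
    {M : Type u} [AddCommGroup M] [Module A M] (hM : IsFiniteLength A M) :
    Module.length B (F.obj (ModuleCat.of A M)) ≤ d * Module.length A M := by
  induction hM with
  | @of_subsingleton M _ _ _ => rw [length_zero_obj F (ModuleCat.of A M)]; exact bot_le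
  | @of_simple_quotient M _ _ N _ hN ih =>
    refine (length_map_le F hF _ (submoduleSeq_shortExact N)).trans ?_
    rw [Module.length_eq_add_of_exact N.subtype N.mkQ N.subtype_injective N.mkQ_surjective
      (LinearMap.exact_subtype_mkQ N), mul_add]
    refine add_le_add ih ((hS (ModuleCat.of A (M ⧸ N)) ‹_›).trans ?_)
    rw [Module.length_eq_one A (M ⧸ N), mul_one]

theorem length_map_ne_top (hF : IsHalfExact F)
    (hS : ∀ M : ModuleCat.{u} A, IsSimpleModule A M → Module.length B (F.obj M) ≠ ⊤)
    {M : Type u} [AddCommGroup M] [Module A M] (hM : IsFiniteLength A M) :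
    Module.length B (F.obj (ModuleCat.of A M)) ≠ ⊤ := by
  induction hM with
  | @of_subsingleton M _ _ _ => rw [length_zero_obj F (ModuleCat.of A M)]; exact ENat.zero_ne_top
  | @of_simple_quotient M _ _ N _ hN ih =>
    exact ne_top_of_le_ne_top (WithTop.add_ne_top.2 ⟨ih, hS (ModuleCat.of A (M ⧸ N)) ‹_›⟩)
      (length_map_le F hF _ (submoduleSeq_shortExact N))

/-- `ℓ(F M) = d · ℓ(M)` for an exact functor, if this holds for simple modules. -/
theorem length_eq_mul (hF : IsHalfExact F)
    (hmono : ∀ {X Y : ModuleCat.{u} A} (f : X ⟶ Y), Mono f → Mono (F.map f))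
    (hepi : ∀ {X Y : ModuleCat.{u} A} (f : X ⟶ Y), Epi f → Epi (F.map f)) (d : ℕ∞)
    (hS : ∀ M : ModuleCat.{u} A, IsSimpleModule A M → Module.length B (F.obj M) = d)
    {M : Type u} [AddCommGroup M] [Module A M] (hM : IsFiniteLength A M) :
    Module.length B (F.obj (ModuleCat.of A M)) = d * Module.length A M := by
  induction hM with
  | @of_subsingleton M _ _ _ =>
    rw [length_zero_obj F (ModuleCat.of A M), Module.length_eq_zero, mul_zero]
  | @of_simple_quotient M _ _ N _ hN ih =>
    have hse := submoduleSeq_shortExact N
    rw [Module.length_eq_add_of_exact (R := A) N.subtype N.mkQ N.subtype_injective N.mkQ_surjective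
      (LinearMap.exact_subtype_mkQ N), mul_add, Module.length_eq_one A (M ⧸ N), mul_one, ← ih,
      ← hS (ModuleCat.of A (M ⧸ N)) ‹_›]
    exact Module.length_eq_add_of_exact (F.map (submoduleSeq N).f).hom (F.map (submoduleSeq N).g).hom
      ((ModuleCat.mono_iff_injective _).1 (hmono _ hse.mono_f))
      ((ModuleCat.epi_iff_surjective _).1 (hepi _ hse.epi_g)) (exact_map F hF _ hse)

end Groth.Agent.Lib.FlatCx.HalfExact
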