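import Groth.Agent.Lib.FlatCx.HKer
import Groth.Agent.Lib.FlatCx.HalfExact
import Mathlib.RingTheory.LocalRing.Module
import Mathlib.RingTheory.LocalRing.ResidueField.Basic
import Mathlib.RingTheory.Artinian.Module
import Mathlib.RingTheory.SimpleModule.Basic
import Mathlib.Algebra.Homology.Linear

/-!
# Exactness criteria for `T_p` over a local ring
-/

universe u

open CategoryTheory CategoryTheory.Limits TensorProduct
open Groth.Agent.Lib.FlatCx.Elem Groth.Agent.Lib.FlatCx.Basic Groth.Agent.Lib.FlatCx.HKer
open Groth.Agent.Lib.FlatCx.HalfExact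

namespace Groth.Agent.Lib.FlatCx.Local

variable {A : Type u} [CommRing A] (P : ChainComplex (ModuleCat.{u} A) ℤ)

theorem tensorMap_add {M N : ModuleCat.{u} A} (g h : M ⟶ N) :
    CohIII.tensorMap P (g + h) = CohIII.tensorMap P g + CohIII.tensorMap P h := by
  refine HomologicalComplex.hom_ext _ _ fun i => ModuleCat.hom_ext ?_
  refine LinearMap.ext fun (x : P.X i ⊗[A] M) => ?_
  show (g + h).hom.lTensor (P.X i) x = g.hom.lTensor (P.X i) x + h.hom.lTensor (P.X i) x
  rw [ModuleCat.hom_add, LinearMap.lTensor_add]
  rfl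

instance TFun_additive (p : ℤ) : (CohIII.TFun P p).Additive where
  map_add {M N g h} := by
    rw [TFun_map, TFun_map, TFun_map, tensorMap_add, HomologicalComplex.homologyMap_add]
    rfl

/-- `T_p(A) = H_p(P)` -/
noncomputable def TOneEquiv {p q : ℤ} (hpq : q + 1 = p) :
    CohIII.T P p (ModuleCat.of A A) ≃ₗ[A] P.homology p :=
  TKerEquiv P (ModuleCat.of A A) hpq ≪≫ₗ
    LinearEquiv.ofSubmodules (TensorProduct.rid A (Q P p)) _ (LinearMap.ker (Dbar P p q)) (by
      have : LinearMap.ker ((Dbar P p q).rTensor A) =
          (LinearMap.ker (Dbar P p q)).comap (TensorProduct.rid A (Q P p)).toLinearMap := by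
        ext x
        show (Dbar P p q).rTensor A x = 0 ↔ Dbar P p q (TensorProduct.rid A (Q P p) x) = 0
        rw [← (TensorProduct.rid A (P.X q)).map_eq_zero_iff]
        constructor <;> intro h <;> convert h using 1 <;>
          (clear h; induction x using TensorProduct.induction_on with
            | zero => simp
            | tmul a b => simp
            | add a b ha hb => simp [map_add, ha, hb])
      erw [this]
      exact Submodule.map_comap_eq_of_surjective (TensorProduct.rid A (Q P p)).surjective _) ≪≫ₗ
    (homologyKerEquiv P hpq).symm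

/-- the class in `T_p(M)` of a cycle of `P ⊗ M` -/
noncomputable def tcls (M : ModuleCat.{u} A) (p q : ℤ) (hq : (ComplexShape.down ℤ).next p = q)
    (z : P.X p ⊗[A] M) (hz : (D P p q).rTensor M z = 0) : CohIII.T P p M :=
  cls (K := CohIII.tensorObj P M) hq ⟨z, hz⟩

theorem tcls_surjective (M : ModuleCat.{u} A) (p q : ℤ) (hq : (ComplexShape.down ℤ).next p = q)
    (a : CohIII.T P p M) : ∃ z hz, tcls P M p q hq z hz = a := by
  obtain ⟨⟨z, hz⟩, rfl⟩ := cls_surjective hq a
  exact ⟨z, hz, rfl⟩

theorem map_tcls {M N : ModuleCat.{u} A} (g : M ⟶ N) (p q : ℤ)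
    (hq : (ComplexShape.down ℤ).next p = q)
    (z : P.X p ⊗[A] M) (hz : (D P p q).rTensor M z = 0)
    (hz' : (D P p q).rTensor N (g.hom.lTensor (P.X p) z) = 0) :
    (CohIII.TFun P p).map g (tcls P M p q hq z hz) = tcls P N p q hq (g.hom.lTensor (P.X p) z) hz' :=
  homologyMap_cls (CohIII.tensorMap P g) hq ⟨z, hz⟩ ⟨_, hz'⟩ rfl

theorem tcls_eq_zero_iff (M : ModuleCat.{u} A) (p q : ℤ) (hq : (ComplexShape.down ℤ).next p = q)
    (z : P.X p ⊗[A] M) (hz : (D P p q).rTensor M z = 0) :
    tcls P M p q hq z hz = 0 ↔ ∃ y : P.X (p + 1) ⊗[A] M, (D P (p + 1) p).rTensor M y = z :=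
  cls_eq_zero_iff (K := CohIII.tensorObj P M) (prev_eq p) hq ⟨z, hz⟩

theorem tcls_eq_iff (M : ModuleCat.{u} A) (p q : ℤ) (hq : (ComplexShape.down ℤ).next p = q)
    (z w : P.X p ⊗[A] M) (hz : (D P p q).rTensor M z = 0) (hw : (D P p q).rTensor M w = 0) :
    tcls P M p q hq z hz = tcls P M p q hq w hw ↔
      ∃ y : P.X (p + 1) ⊗[A] M, (D P (p + 1) p).rTensor M y = z - w := by
  rw [← tcls_eq_zero_iff P M p q hq (z - w) (by rw [map_sub, hz, hw, sub_zero]), ← sub_eq_zero]
  unfold tcls
  rw [← map_sub]
  rfl

variable [∀ i, Module.Flat A (P.X i)]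

theorem isHalfExact_TFun (p : ℤ) : IsHalfExact (CohIII.TFun P p) := by
  intro S hS
  have hf := hS.moduleCat_injective_f
  have hg := hS.moduleCat_surjective_g
  have hfg := (ShortComplex.ShortExact.moduleCat_exact_iff_function_exact _).1 hS.exact
  have hn : (ComplexShape.down ℤ).next p = p - 1 := next_eq (by omega)
  rw [ShortComplex.moduleCat_exact_iff]
  intro a ha
  obtain ⟨z, hz, rfl⟩ := tcls_surjective P S.X₂ p (p - 1) hn a
  have hz' : (D P p (p - 1)).rTensor S.X₃ (S.g.hom.lTensor (P.X p) z) = 0 := by
    rw [← lTensor_rTensor, hz, map_zero]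
  have ha' : (CohIII.TFun P p).map S.g (tcls P S.X₂ p (p - 1) hn z hz) = 0 := ha
  rw [map_tcls P S.g p (p - 1) hn z hz hz'] at ha'
  obtain ⟨u, hu⟩ := (tcls_eq_zero_iff P S.X₃ p (p - 1) hn _ hz').1 ha'
  obtain ⟨v, rfl⟩ := LinearMap.lTensor_surjective (P.X (p + 1)) hg u
  have hw : S.g.hom.lTensor (P.X p) (z - (D P (p + 1) p).rTensor S.X₂ v) = 0 := by
    rw [map_sub, lTensor_rTensor, hu, sub_self]
  obtain ⟨w, hw⟩ := (_root_.lTensor_exact (P.X p) hfg hg _).1 hw
  have hw0 : (D P p (p - 1)).rTensor S.X₁ w = 0 := by
    apply Module.Flat.lTensor_preserves_injective_linearMap (M := P.X (p - 1)) S.f.hom hf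
    rw [map_zero, lTensor_rTensor, hw, map_sub, hz, D_rTensor_D_rTensor, sub_zero]
  have hfw : (D P p (p - 1)).rTensor S.X₂ (S.f.hom.lTensor (P.X p) w) = 0 := by
    rw [← lTensor_rTensor, hw0, map_zero]
  refine ⟨tcls P S.X₁ p (p - 1) hn w hw0, ?_⟩
  show (CohIII.TFun P p).map S.f (tcls P S.X₁ p (p - 1) hn w hw0) = _
  refine (map_tcls P S.f p (p - 1) hn w hw0 hfw).trans
    ((tcls_eq_iff P S.X₂ p (p - 1) hn _ _ hfw hz).2 ⟨-v, ?_⟩)
  rw [map_neg, hw]
  abel

theorem flat_homology_of_exact (p : ℤ)
    (h : (CohIII.TFun P p).PreservesMonomorphisms ∧ (CohIII.TFun P p).PreservesEpimorphisms) :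
    Module.Flat A (P.homology p) := by
  rw [preservesMono_iff P p (p - 1) (by omega), preservesEpi_iff P p (p - 1) (by omega)] at h
  obtain ⟨h1, h2⟩ := h
  have : Module.Flat A (P.X (p - 1) ⧸ LinearMap.range (Dbar P p (p - 1))) :=
    Module.Flat.of_linearEquiv (Submodule.quotEquivOfEq _ _ (range_Dbar P (by omega)))
  have := Ker.flat_range (Dbar P p (p - 1))
  have : Module.Flat A (LinearMap.ker (Dbar P p (p - 1))) :=
    Ker.flat_of_exact (LinearMap.ker (Dbar P p (p - 1))).subtype (Dbar P p (p - 1)).rangeRestrict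
      (Submodule.subtype_injective _) (LinearMap.surjective_rangeRestrict _)
      (fun y => by simp [Subtype.ext_iff])
  exact Module.Flat.of_linearEquiv (homologyKerEquiv P (by omega : (p - 1) + 1 = p))

section IsLocalRing

variable [IsLocalRing A]

omit [∀ i, Module.Flat A (P.X i)] in
theorem exact_maximal_residue :
    Function.Exact (IsLocalRing.maximalIdeal A).subtype
      (Algebra.linearMap A (IsLocalRing.ResidueField A)) := by
  intro x
  constructor
  · intro h
    exact ⟨⟨x, (IsLocalRing.residue_eq_zero_iff x).1 h⟩, rfl⟩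
  · rintro ⟨y, rfl⟩
    exact (IsLocalRing.residue_eq_zero_iff _).2 y.2

theorem surjective_residue_iff (p q : ℤ) (hpq : q + 1 = p) :
    Function.Surjective ((CohIII.TFun P p).map
        (ModuleCat.ofHom (Algebra.linearMap A (IsLocalRing.ResidueField A)))).hom ↔
      Function.Injective ((IsLocalRing.maximalIdeal A).subtype.lTensor (Q P q)) :=
  surjective_iff P p q hpq (M' := (IsLocalRing.maximalIdeal A)) _ _
    (Submodule.subtype_injective _) IsLocalRing.residue_surjective exact_maximal_residue

theorem surjective_residue_of_flat (p q : ℤ) (hpq : q + 1 = p) [Module.Flat A (Q P q)] :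
    Function.Surjective ((CohIII.TFun P p).map
        (ModuleCat.ofHom (Algebra.linearMap A (IsLocalRing.ResidueField A)))).hom :=
  (surjective_residue_iff P p q hpq).2
    (Module.Flat.lTensor_preserves_injective_linearMap _ (Submodule.subtype_injective _))

omit P [∀ i, Module.Flat A (P.X i)] in
theorem free_of_injective (N : Type u) [AddCommGroup N] [Module A N] [Module.FinitePresentation A N]
    (h : Function.Injective ((IsLocalRing.maximalIdeal A).subtype.lTensor N)) : Module.Free A N :=
  Module.free_of_maximalIdeal_rTensor_injective ((LinearMap.lTensor_inj_iff_rTensor_inj N _).1 h)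

omit P [∀ i, Module.Flat A (P.X i)] in
/-- from `m ⊗ N → N` injective: the same for any extension of `A ⧸ m` -/
theorem injective_of_residue_coker (N : Type u) [AddCommGroup N] [Module A N]
    (h : Function.Injective ((IsLocalRing.maximalIdeal A).subtype.lTensor N))
    {X Y : Type u} [AddCommGroup X] [Module A X] [AddCommGroup Y] [Module A Y]
    (i : X →ₗ[A] Y) (g : Y →ₗ[A] A ⧸ IsLocalRing.maximalIdeal A)
    (hi : Function.Injective i) (hg : Function.Surjective g) (hig : Function.Exact i g) :
    Function.Injective (i.lTensor N) := by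
  let π : (N →₀ A) →ₗ[A] N := Finsupp.linearCombination A id
  have hπ : Function.Surjective π := Finsupp.linearCombination_surjective _ Function.surjective_id
  have hk : Function.Injective
      ((LinearMap.ker π).subtype.lTensor (A ⧸ IsLocalRing.maximalIdeal A)) :=
    lTensor_injective_of_exact_of_exact_of_rTensor_injective
      (M₁ := IsLocalRing.maximalIdeal A) (M₂ := A) (M₃ := A ⧸ IsLocalRing.maximalIdeal A)
      (N₁ := LinearMap.ker π) (N₂ := N →₀ A) (N₃ := N)
      (LinearMap.exact_subtype_mkQ (IsLocalRing.maximalIdeal A)) (Submodule.mkQ_surjective _)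
      (LinearMap.exact_subtype_ker_map π) hπ
      ((LinearMap.lTensor_inj_iff_rTensor_inj N _).1 h)
      (Module.Flat.lTensor_preserves_injective_linearMap _ (Submodule.subtype_injective _))
  exact lTensor_injective_of_exact_of_exact_of_rTensor_injective
    (M₁ := LinearMap.ker π) (M₂ := N →₀ A) (M₃ := N)
    (N₁ := X) (N₂ := Y) (N₃ := A ⧸ IsLocalRing.maximalIdeal A)
    (LinearMap.exact_subtype_ker_map π) hπ hig hg
    ((LinearMap.lTensor_inj_iff_rTensor_inj _ _).1 hk)
    (Module.Flat.lTensor_preserves_injective_linearMap _ hi)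

omit P [∀ i, Module.Flat A (P.X i)] in
/-- from `m ⊗ N → N` injective: `N ⊗ -` preserves injections with cokernel of finite length -/
theorem injective_of_finiteLength_coker (N : Type u) [AddCommGroup N] [Module A N]
    (h : Function.Injective ((IsLocalRing.maximalIdeal A).subtype.lTensor N))
    {C : Type u} [AddCommGroup C] [Module A C] (hC : IsFiniteLength A C) :
    ∀ {X Y : Type u} [AddCommGroup X] [Module A X] [AddCommGroup Y] [Module A Y]
      (i : X →ₗ[A] Y) (g : Y →ₗ[A] C), Function.Injective i → Function.Surjective g →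
      Function.Exact i g → Function.Injective (i.lTensor N) := by
  induction hC with
  | @of_subsingleton M _ _ _ =>
    intro X Y _ _ _ _ i g hi _ hig
    have hsurj : Function.Surjective i := fun y => (hig y).1 (Subsingleton.elim _ _)
    exact ((LinearEquiv.ofBijective i ⟨hi, hsurj⟩).lTensor N).injective
  | @of_simple_quotient M _ _ K _ hK ih =>
    intro X Y _ _ _ _ i g hi hg hig
    let Y' : Submodule A Y := K.comap g
    let i' : X →ₗ[A] Y' := i.codRestrict Y' fun x => by
      show g (i x) ∈ K
      rw [hig.apply_apply_eq_zero]; exact zero_mem _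
    let g' : Y' →ₗ[A] K := g.restrict fun y hy => hy
    have h1 : Function.Injective (i'.lTensor N) :=
      ih i' g' (fun a b hab => hi (congrArg Subtype.val hab))
        (fun k => by
          obtain ⟨y, hy⟩ := hg k.1
          exact ⟨⟨y, by show g y ∈ K; rw [hy]; exact k.2⟩, Subtype.ext hy⟩)
        (fun y => by
          rw [Subtype.ext_iff]
          constructor
          · intro hy
            obtain ⟨x, hx⟩ := (hig y.1).1 hy
            exact ⟨x, Subtype.ext hx⟩
          · rintro ⟨x, rfl⟩
            exact hig.apply_apply_eq_zero x)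
    have h2 : Function.Injective (Y'.subtype.lTensor N) := by
      obtain ⟨I, hI, ⟨e⟩⟩ := isSimpleModule_iff_quot_maximal.1 ‹IsSimpleModule A (M ⧸ K)›
      obtain rfl := IsLocalRing.eq_maximalIdeal hI
      let g'' : Y →ₗ[A] A ⧸ IsLocalRing.maximalIdeal A := e.toLinearMap ∘ₗ K.mkQ ∘ₗ g
      have hg'' : Function.Surjective g'' := e.surjective.comp (K.mkQ_surjective.comp hg)
      have hex : Function.Exact Y'.subtype g'' := fun y => by
        simp [g'', Y']
      exact injective_of_residue_coker N h Y'.subtype g'' (Submodule.subtype_injective _) hg'' hex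
    have : i = Y'.subtype ∘ₗ i' := rfl
    rw [this, LinearMap.lTensor_comp]
    exact h2.comp h1

omit P [∀ i, Module.Flat A (P.X i)] in
theorem flat_of_injective_of_isArtinianRing [IsArtinianRing A] (N : Type u) [AddCommGroup N] [Module A N]
    (h : Function.Injective ((IsLocalRing.maximalIdeal A).subtype.lTensor N)) : Module.Flat A N := by
  rw [Module.Flat.iff_rTensor_injective]
  intro I _
  have hlen : IsFiniteLength A (A ⧸ I) := isFiniteLength_iff_isNoetherian_isArtinian.2
    ⟨inferInstance, inferInstance⟩
  rw [← LinearMap.lTensor_inj_iff_rTensor_inj]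
  exact injective_of_finiteLength_coker N h hlen I.subtype I.mkQ I.subtype_injective
    I.mkQ_surjective (LinearMap.exact_subtype_mkQ I)

theorem preservesEpi_iff_residue_of_isArtinian [IsArtinianRing A] (p q : ℤ) (hpq : q + 1 = p) :
    (CohIII.TFun P p).PreservesEpimorphisms ↔
      Function.Surjective ((CohIII.TFun P p).map
        (ModuleCat.ofHom (Algebra.linearMap A (IsLocalRing.ResidueField A)))).hom := by
  rw [preservesEpi_iff P p q hpq]
  exact ⟨fun _ => surjective_residue_of_flat P p q hpq,
    fun h => flat_of_injective_of_isArtinianRing _ ((surjective_residue_iff P p q hpq).1 h)⟩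

theorem preservesEpi_iff_residue_of_finite [IsNoetherianRing A] (hP : ∀ i, Module.Finite A (P.X i))
    (p q : ℤ) (hpq : q + 1 = p) :
    (CohIII.TFun P p).PreservesEpimorphisms ↔
      Function.Surjective ((CohIII.TFun P p).map
        (ModuleCat.ofHom (Algebra.linearMap A (IsLocalRing.ResidueField A)))).hom := by
  rw [preservesEpi_iff P p q hpq]
  refine ⟨fun _ => surjective_residue_of_flat P p q hpq, fun h => ?_⟩
  have := hP q
  have : Module.FinitePresentation A (Q P q) := Module.finitePresentation_of_finite A _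
  have := free_of_injective _ ((surjective_residue_iff P p q hpq).1 h)
  infer_instance

theorem exact_iff_residue_of_isArtinian [IsArtinianRing A] (p q : ℤ) (hpq : p + 1 = q) :
    ((CohIII.TFun P p).PreservesMonomorphisms ∧ (CohIII.TFun P p).PreservesEpimorphisms) ↔
      (Function.Surjective ((CohIII.TFun P q).map
          (ModuleCat.ofHom (Algebra.linearMap A (IsLocalRing.ResidueField A)))).hom ∧
        Function.Surjective ((CohIII.TFun P p).map
          (ModuleCat.ofHom (Algebra.linearMap A (IsLocalRing.ResidueField A)))).hom) := by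
  rw [← preservesEpi_iff_preservesMono P q p hpq, preservesEpi_iff_residue_of_isArtinian P q p hpq,
    preservesEpi_iff_residue_of_isArtinian P p (p - 1) (by omega)]

theorem exact_iff_residue_of_finite [IsNoetherianRing A] (hP : ∀ i, Module.Finite A (P.X i))
    (p q : ℤ) (hpq : p + 1 = q) :
    ((CohIII.TFun P p).PreservesMonomorphisms ∧ (CohIII.TFun P p).PreservesEpimorphisms) ↔
      (Function.Surjective ((CohIII.TFun P q).map
          (ModuleCat.ofHom (Algebra.linearMap A (IsLocalRing.ResidueField A)))).hom ∧
        Function.Surjective ((CohIII.TFun P p).map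
          (ModuleCat.ofHom (Algebra.linearMap A (IsLocalRing.ResidueField A)))).hom) := by
  rw [← preservesEpi_iff_preservesMono P q p hpq, preservesEpi_iff_residue_of_finite P hP q p hpq,
    preservesEpi_iff_residue_of_finite P hP p (p - 1) (by omega)]

/-- every simple module is the residue field -/
theorem length_T_simple (p : ℤ) (M : ModuleCat.{u} A) (hM : IsSimpleModule A M) :
    Module.length A (CohIII.T P p M) =
      Module.length A (CohIII.T P p (ModuleCat.of A (IsLocalRing.ResidueField A))) := by
  obtain ⟨I, hI, ⟨e⟩⟩ := isSimpleModule_iff_quot_maximal.1 hM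
  obtain rfl := IsLocalRing.eq_maximalIdeal hI
  exact ((CohIII.TFun P p).mapIso (e.toModuleIso :
    ModuleCat.of A M ≅ ModuleCat.of A (IsLocalRing.ResidueField A))).toLinearEquiv.length_eq

theorem length_T_eq_of_exact (p : ℤ)
    (h : (CohIII.TFun P p).PreservesMonomorphisms ∧ (CohIII.TFun P p).PreservesEpimorphisms)
    (M : ModuleCat.{u} A) (hM : Module.length A M ≠ ⊤) :
    Module.length A (CohIII.T P p M) =
      Module.length A (CohIII.T P p (ModuleCat.of A (IsLocalRing.ResidueField A))) * Module.length A M :=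
  length_eq_mul (CohIII.TFun P p) (isHalfExact_TFun P p) (fun f _ => h.1.preserves f)
    (fun f _ => h.2.preserves f) _ (fun M hM => length_T_simple P p M hM)
    (Module.length_ne_top_iff.1 hM)

theorem exact_of_length_eq [IsArtinianRing A] (p : ℤ)
    (hd : Module.length A (CohIII.T P p (ModuleCat.of A (IsLocalRing.ResidueField A))) ≠ ⊤)
    (hj : Module.length A (CohIII.T P p (ModuleCat.of A A)) =
      Module.length A (CohIII.T P p (ModuleCat.of A (IsLocalRing.ResidueField A))) * Module.length A A) :
    (CohIII.TFun P p).PreservesMonomorphisms ∧ (CohIII.TFun P p).PreservesEpimorphisms := by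
  obtain ⟨d, hd'⟩ := ENat.ne_top_iff_exists.1 hd
  let S : ShortComplex (ModuleCat.{u} A) :=
    ShortComplex.mk (ModuleCat.ofHom (IsLocalRing.maximalIdeal A).subtype)
      (ModuleCat.ofHom (Algebra.linearMap A (IsLocalRing.ResidueField A)))
      (ModuleCat.hom_ext (exact_maximal_residue (A := A)).linearMap_comp_eq_zero)
  have hS : S.ShortExact :=
    { exact := (ShortComplex.ShortExact.moduleCat_exact_iff_function_exact _).2 exact_maximal_residue
      mono_f := (ModuleCat.mono_iff_injective _).2 (Submodule.subtype_injective _)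
      epi_g := (ModuleCat.epi_iff_surjective _).2 IsLocalRing.residue_surjective }
  have hm : Module.length A (IsLocalRing.maximalIdeal A) ≠ ⊤ := Module.length_ne_top
  have hbound : Module.length A (CohIII.T P p S.X₁) ≤ (d : ℕ∞) * Module.length A (IsLocalRing.maximalIdeal A) :=
    length_le_mul (CohIII.TFun P p) (isHalfExact_TFun P p) d
      (fun M hM => ((length_T_simple P p M hM).trans hd'.symm).le) (Module.length_ne_top_iff.1 hm)
  have hA : Module.length A A = Module.length A (IsLocalRing.maximalIdeal A) + 1 := by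
    rw [Module.length_eq_add_of_exact (IsLocalRing.maximalIdeal A).subtype
      (IsLocalRing.maximalIdeal A).mkQ (Submodule.subtype_injective _) (Submodule.mkQ_surjective _)
      (LinearMap.exact_subtype_mkQ _)]
    congr 1
    rw [Module.length_eq_one_iff]
    exact isSimpleModule_iff_quot_maximal.2
      ⟨_, IsLocalRing.maximalIdeal.isMaximal A, ⟨LinearEquiv.refl A _⟩⟩
  have hle : Module.length A (CohIII.T P p S.X₁) + (d : ℕ∞) ≤ Module.length A (CohIII.T P p S.X₂) := by
    show _ ≤ Module.length A (CohIII.T P p (ModuleCat.of A A))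
    rw [hj, ← hd', hA, mul_add, mul_one]
    exact add_le_add hbound le_rfl
  have heq : Module.length A ((CohIII.TFun P p).obj S.X₂) =
      Module.length A ((CohIII.TFun P p).obj S.X₁) + Module.length A ((CohIII.TFun P p).obj S.X₃) :=
    le_antisymm (length_map_le _ (isHalfExact_TFun P p) S hS) (by
      show _ + Module.length A (CohIII.T P p (ModuleCat.of A (IsLocalRing.ResidueField A))) ≤ _
      rw [← hd']
      exact hle)
  have h1 : Module.length A ((CohIII.TFun P p).obj S.X₁) ≠ ⊤ := by
    obtain ⟨e, he⟩ := ENat.ne_top_iff_exists.1 hm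
    exact ne_top_of_le_ne_top (by rw [← he, ← Nat.cast_mul]; exact ENat.natCast_ne_top _) hbound
  have hse := (length_map_eq_iff _ (isHalfExact_TFun P p) S hS h1 (by exact hd)).1 heq
  refine ⟨?_, ?_⟩
  · rw [preservesMono_iff P p (p - 1) (by omega)]
    refine flat_of_injective_of_isArtinianRing _ ?_
    exact (injective_iff P p (p - 1) (by omega) (IsLocalRing.maximalIdeal A).subtype
      (Submodule.subtype_injective _)).1 hse.moduleCat_injective_f
  · rw [preservesEpi_iff_residue_of_isArtinian P p (p - 1) (by omega)]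
    exact hse.moduleCat_surjective_g

end IsLocalRing

end Groth.Agent.Lib.FlatCx.Local
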