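import Groth.Agent.Lib.FlatCx.Rank

/-!
# Semicontinuity of the rank of the fibres of a linear map
-/

universe u v w

open TensorProduct

namespace Groth.Agent.Lib.FlatCx.FibreRank

variable {A : Type u} [CommRing A] {M : Type v} {N : Type w} [AddCommGroup M] [Module A M]
  [AddCommGroup N] [Module A N] (δ : M →ₗ[A] N)

/-- `dim im + dim coker = dim target` on a fibre. -/
theorem finrank_range_add (k : Type u) [Field k] [Algebra A k] [Module.Finite A N] :
    Module.finrank k (LinearMap.range (δ.baseChange k)) +
      Module.finrank k (k ⊗[A] (N ⧸ LinearMap.range δ)) = Module.finrank k (k ⊗[A] N) := by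
  have hsurj : Function.Surjective ((LinearMap.range δ).mkQ.baseChange k) :=
    LinearMap.lTensor_surjective k (Submodule.mkQ_surjective _)
  have hker : LinearMap.ker ((LinearMap.range δ).mkQ.baseChange k) =
      LinearMap.range (δ.baseChange k) := by
    ext ξ
    exact _root_.lTensor_exact k (LinearMap.exact_map_mkQ_range δ) (Submodule.mkQ_surjective _) ξ
  have h := LinearMap.finrank_range_add_finrank_ker ((LinearMap.range δ).mkQ.baseChange k)
  rw [LinearMap.range_eq_top.2 hsurj, finrank_top, hker] at h
  omega

/-- Fibre dimensions of a finite module in any universe are upper semicontinuous. -/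
theorem upperSemicontinuous_finrank (P : Type v) [AddCommGroup P] [Module A P] [Module.Finite A P] :
    UpperSemicontinuous (fun x : PrimeSpectrum A =>
      Module.finrank x.asIdeal.ResidueField (x.asIdeal.ResidueField ⊗[A] P)) := by
  obtain ⟨n, g, hg⟩ := Module.Finite.exists_fin' A P
  rw [show (fun x : PrimeSpectrum A =>
      Module.finrank x.asIdeal.ResidueField (x.asIdeal.ResidueField ⊗[A] P)) =
      Rank.fdim (A := A) ((Fin n → A) ⧸ LinearMap.ker g) from funext fun x =>
    (((LinearMap.quotKerEquivOfSurjective g hg).symm).baseChange A
      x.asIdeal.ResidueField).finrank_eq]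
  exact Rank.upperSemicontinuous_fdim _

end Groth.Agent.Lib.FlatCx.FibreRank
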