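import Groth.Agent.Lib.FlatCx.FibreRank
import Groth.Agent.Lib.FlatCx.BaseChange
import Groth.Agent.Lib.FlatCx.Ker
import Mathlib.RingTheory.Flat.EquationalCriterion
import Mathlib.Algebra.Homology.ShortComplex.ModuleCat

/-!
# Fibres of cochain complexes of free modules with locally constant Betti numbers
-/

set_option autoImplicit false
set_option linter.style.haveILetI false

universe u

open CategoryTheory CategoryTheory.Limits TensorProduct

namespace Groth.Agent.Lib.FlatCx.CochainFibre

variable {R : Type u} [CommRing R]

/-- The homology of a short complex of modules as the kernel on the cokernel. -/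
noncomputable def homologyEquivKer (S : ShortComplex (ModuleCat.{u} R)) :
    S.homology ≃ₗ[R] LinearMap.ker ((LinearMap.range S.f.hom).liftQ S.g.hom
      (by rintro _ ⟨x, rfl⟩; exact S.moduleCat_zero_apply x)) :=
  S.moduleCatHomologyIso.toLinearEquiv ≪≫ₗ
  LinearEquiv.ofBijective
    (Submodule.liftQ (LinearMap.range S.moduleCatToCycles)
      (((LinearMap.range S.f.hom).mkQ ∘ₗ (LinearMap.ker S.g.hom).subtype).codRestrict _
        (fun z => by simp [LinearMap.mem_ker.1 z.2]))
      (by
        rintro _ ⟨x, rfl⟩
        refine LinearMap.mem_ker.2 (Subtype.ext ?_)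
        exact (Submodule.Quotient.mk_eq_zero _).2 ⟨x, rfl⟩))
    ⟨(injective_iff_map_eq_zero _).2 fun z => by
        obtain ⟨z, rfl⟩ := Submodule.Quotient.mk_surjective _ z
        intro hz
        obtain ⟨x, hx⟩ := (Submodule.Quotient.mk_eq_zero _).1 (congrArg Subtype.val hz)
        exact (Submodule.Quotient.mk_eq_zero _).2 ⟨x, Subtype.ext hx⟩,
      fun ⟨q, hq⟩ => by
        obtain ⟨y, rfl⟩ := Submodule.Quotient.mk_surjective _ q
        exact ⟨Submodule.Quotient.mk ⟨y, LinearMap.mem_ker.2 (by simpa using hq)⟩, rfl⟩⟩

/-- The dimension of the homology of a short complex of vector spaces. -/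
theorem finrank_homology_add {K : Type u} [Field K] (S : ShortComplex (ModuleCat.{u} K))
    [FiniteDimensional K S.X₂] [FiniteDimensional K S.X₃] :
    Module.finrank K S.homology + Module.finrank K S.X₃ =
      Module.finrank K (S.X₂ ⧸ LinearMap.range S.f.hom) +
        Module.finrank K (S.X₃ ⧸ LinearMap.range S.g.hom) := by
  rw [(homologyEquivKer S).finrank_eq, Ker.finrank_ker_add_finrank,
    (Submodule.quotEquivOfEq _ _ (Submodule.range_liftQ _ _ _)).finrank_eq]

/-- The cokernel of an extended map has the fibre dimension of the cokernel. -/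
theorem finrank_coker_extend {X Y : ModuleCat.{u} R} (f : X ⟶ Y) [Module.Finite R Y]
    (x : PrimeSpectrum R) :
    Module.finrank x.asIdeal.ResidueField
      (((ModuleCat.extendScalars (algebraMap R x.asIdeal.ResidueField)).obj Y) ⧸
        LinearMap.range ((ModuleCat.extendScalars (algebraMap R x.asIdeal.ResidueField)).map f).hom) =
      Rank.fdim (Y ⧸ LinearMap.range f.hom) x := by
  let K := x.asIdeal.ResidueField
  let e := BaseChange.extEquiv (A := R) K Y
  have hr : (LinearMap.range ((ModuleCat.extendScalars (algebraMap R K)).map f).hom).map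
      e.toLinearMap = LinearMap.range (f.hom.baseChange K) := by
    ext ξ
    constructor
    · rintro ⟨_, ⟨z, rfl⟩, rfl⟩
      exact ⟨_, (BaseChange.extEquiv_map K f z).symm⟩
    · rintro ⟨w, rfl⟩
      obtain ⟨z, rfl⟩ := (BaseChange.extEquiv (A := R) K X).surjective w
      exact ⟨_, ⟨z, rfl⟩, BaseChange.extEquiv_map K f z⟩
  rw [(Submodule.Quotient.equiv _ _ e hr).finrank_eq]
  have h1 := FibreRank.finrank_range_add f.hom K
  have h2 := (LinearMap.range (f.hom.baseChange K)).finrank_quotient_add_finrank
  change _ = Module.finrank K (K ⊗[R] _)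
  omega

variable (P : CochainComplex (ModuleCat.{u} R) ℤ)

/-- The cokernel of the differential into degree `j`. -/
abbrev C (a j : ℤ) : Type u := P.X j ⧸ LinearMap.range (P.d a j).hom

variable (hP : ∀ j : ℤ, Module.Finite R (P.X j) ∧ Module.Free R (P.X j))

include hP in
theorem betti_add (i : ℤ) (x : PrimeSpectrum R) :
    Module.finrank x.asIdeal.ResidueField
        ((((ModuleCat.extendScalars (algebraMap R x.asIdeal.ResidueField)).mapHomologicalComplex
          (ComplexShape.up ℤ)).obj P).homology i) + Module.finrank R (P.X (i + 1)) =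
      Rank.fdim (C P (i - 1) i) x + Rank.fdim (C P i (i + 1)) x := by
  let K := x.asIdeal.ResidueField
  let P' := ((ModuleCat.extendScalars (algebraMap R K)).mapHomologicalComplex (ComplexShape.up ℤ)).obj P
  haveI := fun j => (hP j).1
  haveI := fun j => (hP j).2
  haveI : ∀ j, FiniteDimensional K (P'.X j) := fun j =>
    Module.Finite.equiv (BaseChange.extEquiv (A := R) K (P.X j)).symm
  haveI : Nontrivial R := ⟨⟨0, 1, fun h => x.isPrime.ne_top
    ((Ideal.eq_top_iff_one _).2 (h ▸ zero_mem _))⟩⟩
  haveI : FiniteDimensional K (P'.sc' (i - 1) i (i + 1)).X₂ := inferInstanceAs (FiniteDimensional K (P'.X i))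
  haveI : FiniteDimensional K (P'.sc' (i - 1) i (i + 1)).X₃ := inferInstanceAs (FiniteDimensional K (P'.X (i + 1)))
  have h := finrank_homology_add (P'.sc' (i - 1) i (i + 1))
  rw [← (P'.homologyIsoSc' (i - 1) i (i + 1) (by simp) (by simp)).toLinearEquiv.finrank_eq] at h
  have h3 : Module.finrank K (P'.X (i + 1)) = Module.finrank R (P.X (i + 1)) :=
    (BaseChange.extEquiv (A := R) K (P.X (i + 1))).finrank_eq.trans Module.finrank_baseChange
  have ha : Module.finrank K ((P'.sc' (i - 1) i (i + 1)).X₂ ⧸
      LinearMap.range (P'.sc' (i - 1) i (i + 1)).f.hom) = Rank.fdim (C P (i - 1) i) x :=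
    finrank_coker_extend (P.d (i - 1) i) x
  have hb : Module.finrank K ((P'.sc' (i - 1) i (i + 1)).X₃ ⧸
      LinearMap.range (P'.sc' (i - 1) i (i + 1)).g.hom) = Rank.fdim (C P i (i + 1)) x :=
    finrank_coker_extend (P.d i (i + 1)) x
  rw [ha, hb] at h
  change Module.finrank K (P'.homology i) + Module.finrank K (P'.X (i + 1)) = _ at h
  rwa [h3] at h

include hP in
/-- Locally constant Betti numbers over a reduced ring give finite projective cohomology. -/
theorem finite_projective_homology [IsReduced R] (i : ℤ)
    (hconst : IsLocallyConstant fun p : PrimeSpectrum R =>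
      Module.finrank p.asIdeal.ResidueField
        ((((ModuleCat.extendScalars (algebraMap R p.asIdeal.ResidueField)).mapHomologicalComplex
          (ComplexShape.up ℤ)).obj P).homology i)) :
    Module.Finite R (P.homology i) ∧ Module.Projective R (P.homology i) := by
  haveI := fun j => (hP j).1
  haveI := fun j => (hP j).2
  haveI hfp : ∀ a j : ℤ, Module.FinitePresentation R (C P a j) := fun a j => by
    haveI := Module.finitePresentation_of_projective R (P.X j)
    refine Module.finitePresentation_of_surjective (LinearMap.range (P.d a j).hom).mkQ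
      (Submodule.mkQ_surjective _) ?_
    rw [Submodule.ker_mkQ]
    exact Module.Finite.iff_fg.1 inferInstance
  have hev : ∀ x, ∀ᶠ y in nhds x, Rank.fdim (C P (i - 1) i) y = Rank.fdim (C P (i - 1) i) x ∧
      Rank.fdim (C P i (i + 1)) y = Rank.fdim (C P i (i + 1)) x := fun x => by
    have h1 := Rank.upperSemicontinuous_fdim (A := R) (C P (i - 1) i) x _ (Nat.lt_succ_self _)
    have h2 := Rank.upperSemicontinuous_fdim (A := R) (C P i (i + 1)) x _ (Nat.lt_succ_self _)
    filter_upwards [h1, h2, hconst.eventually_eq x] with y e1 e2 e3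
    have := betti_add P hP i x
    have := betti_add P hP i y
    constructor <;> omega
  have hspec : ∀ x y : PrimeSpectrum R, x ≤ y → Rank.fdim (C P (i - 1) i) x = Rank.fdim (C P (i - 1) i) y ∧
      Rank.fdim (C P i (i + 1)) x = Rank.fdim (C P i (i + 1)) y := fun x y hxy =>
    have h := mem_of_mem_nhds (((PrimeSpectrum.le_iff_specializes x y).1 hxy) (hev y))
    h
  haveI : Module.Flat R (C P (i - 1) i) := Rank.flat_of_fdim_eq_of_le _ fun x y h => (hspec x y h).1
  haveI : Module.Flat R (C P i (i + 1)) := Rank.flat_of_fdim_eq_of_le _ fun x y h => (hspec x y h).2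
  haveI : Module.Projective R (C P (i - 1) i) := Module.Flat.projective_of_finitePresentation
  haveI : Module.Projective R (C P i (i + 1)) := Module.Flat.projective_of_finitePresentation
  let S := P.sc' (i - 1) i (i + 1)
  let u : C P (i - 1) i →ₗ[R] P.X (i + 1) := (LinearMap.range (P.d (i - 1) i).hom).liftQ (P.d i (i + 1)).hom
    (by rintro _ ⟨x, rfl⟩; exact S.moduleCat_zero_apply x)
  -- the image of `u` is projective
  have hr : LinearMap.range u = LinearMap.range (P.d i (i + 1)).hom := Submodule.range_liftQ _ _ _
  let π := (LinearMap.range u).mkQ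
  haveI : Module.Projective R (P.X (i + 1) ⧸ LinearMap.range u) :=
    Module.Projective.of_equiv (Submodule.quotEquivOfEq _ _ hr).symm
  obtain ⟨s, hs⟩ := Module.projective_lifting_property π LinearMap.id (Submodule.mkQ_surjective _)
  haveI : Module.Projective R (LinearMap.range u) := Module.Projective.of_split
    (LinearMap.range u).subtype
    ((LinearMap.id - s ∘ₗ π).codRestrict _ fun y => by
      have := LinearMap.congr_fun hs (π y)
      simp only [LinearMap.comp_apply, LinearMap.id_apply] at this
      refine (Submodule.Quotient.mk_eq_zero _).1 ?_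
      change π (y - s (π y)) = 0
      rw [map_sub, this, sub_self])
    (by
      ext ⟨y, hy⟩
      have : π y = 0 := (Submodule.Quotient.mk_eq_zero _).2 hy
      simp [this])
  obtain ⟨t, ht⟩ := Module.projective_lifting_property u.rangeRestrict LinearMap.id
    u.surjective_rangeRestrict
  let r : C P (i - 1) i →ₗ[R] LinearMap.ker u := (LinearMap.id - t ∘ₗ u.rangeRestrict).codRestrict _ fun y => by
    have := congrArg Subtype.val (LinearMap.congr_fun ht (u.rangeRestrict y))
    simp only [LinearMap.comp_apply, LinearMap.id_apply, LinearMap.codRestrict_apply] at this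
    simp [this]
  have hrs : r ∘ₗ (LinearMap.ker u).subtype = LinearMap.id := by
    ext ⟨y, hy⟩
    have : u.rangeRestrict y = 0 := Subtype.ext hy
    simp [r, this]
  haveI : Module.Projective R (LinearMap.ker u) := Module.Projective.of_split _ r hrs
  haveI : Module.Finite R (LinearMap.ker u) := Module.Finite.of_surjective r
    fun y => ⟨y, LinearMap.congr_fun hrs y⟩
  let e : P.homology i ≃ₗ[R] LinearMap.ker u :=
    (P.homologyIsoSc' (i - 1) i (i + 1) (by simp) (by simp)).toLinearEquiv ≪≫ₗ homologyEquivKer S
  exact ⟨Module.Finite.equiv e.symm, Module.Projective.of_equiv e.symm⟩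

end Groth.Agent.Lib.FlatCx.CochainFibre
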