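import Groth.Agent.Lib.FlatCx.Elem
import Groth.Agent.Lib.FlatCx.Ker
import Groth.Agent.Lib.FlatCx.RightExact
import Mathlib.Algebra.Category.ModuleCat.Monoidal.Basic
import Mathlib.Algebra.Homology.Additive
import Mathlib.Algebra.Homology.QuasiIso
import Mathlib.CategoryTheory.Monoidal.Preadditive
import Mathlib.LinearAlgebra.TensorProduct.Prod

/-!
# Bounded above sequences of flat modules
-/

universe u

open CategoryTheory CategoryTheory.Limits TensorProduct
open Groth.Agent.Lib.FlatCx.Elem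

namespace Groth.Agent.Lib.FlatCx.Above

variable {A : Type u} [CommRing A] {W : ℤ → Type u} [∀ i, AddCommGroup (W i)] [∀ i, Module A (W i)]
  (dd : ∀ i j, W i →ₗ[A] W j)

theorem flat_ker [∀ i, Module.Flat A (W i)] (b : ℤ) (hb : ∀ i, b < i → Subsingleton (W i)) (d : ℤ)
    (hex : ∀ i j k, i + 1 = j → j + 1 = k → d < j → Function.Exact (dd i j) (dd j k)) :
    ∀ i j, i + 1 = j → d ≤ i → Module.Flat A (LinearMap.ker (dd i j)) := by
  have key : ∀ (n : ℕ) i j, i + 1 = j → d ≤ i → b - i < n → Module.Flat A (LinearMap.ker (dd i j)) := by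
    intro n
    induction n with
    | zero =>
      intro i j _ _ hn
      have := hb i (by omega)
      infer_instance
    | succ n ih =>
      intro i j hij hd hn
      have := ih j (j + 1) rfl (by omega) (by omega)
      have hr : LinearMap.range (dd i j) = LinearMap.ker (dd j (j + 1)) :=
        ((hex i j (j + 1) hij rfl (by omega)).linearMap_ker_eq).symm
      have : Module.Flat A (LinearMap.range (dd i j)) := by rw [hr]; infer_instance
      exact Ker.flat_of_exact (LinearMap.ker (dd i j)).subtype (dd i j).rangeRestrict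
        (Submodule.subtype_injective _) (LinearMap.surjective_rangeRestrict _)
        (fun y => by simp [Subtype.ext_iff])
  exact fun i j hij hd => key ((b - i).toNat + 1) i j hij hd (by omega)

theorem exact_rTensor [∀ i, Module.Flat A (W i)] (b : ℤ) (hb : ∀ i, b < i → Subsingleton (W i))
    (hex : ∀ i j k, i + 1 = j → j + 1 = k → Function.Exact (dd i j) (dd j k))
    (M : Type u) [AddCommGroup M] [Module A M] (i j k : ℤ) (hij : i + 1 = j) (hjk : j + 1 = k) :
    Function.Exact ((dd i j).rTensor M) ((dd j k).rTensor M) := by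
  have fk := fun a c h => flat_ker dd b hb a (fun i j k h1 h2 _ => hex i j k h1 h2) a c h le_rfl
  have := fk k (k + 1) rfl
  have e1 : LinearMap.range (dd i j) = LinearMap.ker (dd j k) :=
    ((hex i j k hij hjk).linearMap_ker_eq).symm
  have e2 : LinearMap.range (dd j k) = LinearMap.ker (dd k (k + 1)) :=
    ((hex j k (k + 1) hjk rfl).linearMap_ker_eq).symm
  -- `Z j → W j → Z k` is short exact with flat cokernel
  let g : W j →ₗ[A] LinearMap.ker (dd k (k + 1)) := (dd j k).codRestrict _ fun y => by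
    rw [← e2]; exact ⟨y, rfl⟩
  have hg : Function.Surjective g := by
    rintro ⟨z, hz⟩
    rw [← e2] at hz
    obtain ⟨y, hy⟩ := hz
    exact ⟨y, Subtype.ext hy⟩
  have hgex : Function.Exact (dd i j) g := fun y => by
    rw [← hex i j k hij hjk y, Subtype.ext_iff]; rfl
  -- the inclusion `Z k → W k` stays injective
  have hsub : Function.Injective ((LinearMap.ker (dd k (k + 1))).subtype.rTensor M) := by
    have := fk (k + 1) (k + 1 + 1) rfl
    let g' : W k →ₗ[A] LinearMap.ker (dd (k + 1) (k + 1 + 1)) :=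
      (dd k (k + 1)).codRestrict _ fun y => (hex k (k + 1) (k + 1 + 1) rfl rfl).apply_apply_eq_zero y
    have hg' : Function.Surjective g' := by
      rintro ⟨z, hz⟩
      obtain ⟨y, hy⟩ := (hex k (k + 1) (k + 1 + 1) rfl rfl z).1 hz
      exact ⟨y, Subtype.ext hy⟩
    exact (LinearMap.lTensor_inj_iff_rTensor_inj _ _).1
      (LinearMap.lTensor_injective_of_exact_of_flat g' hg' _ (Submodule.subtype_injective _)
        (fun y => ⟨fun h => ⟨⟨y, congrArg Subtype.val h⟩, rfl⟩, by
          rintro ⟨z, rfl⟩; exact Subtype.ext z.2⟩) M)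
  rw [show dd j k = (LinearMap.ker (dd k (k + 1))).subtype ∘ₗ g from rfl, LinearMap.rTensor_comp]
  exact (_root_.rTensor_exact M hgex hg).comp_injective _ hsub (map_zero _)

section Complex

variable (F : CochainComplex (ModuleCat.{u} A) ℤ)

theorem next_up {i j : ℤ} (h : i + 1 = j) : (ComplexShape.up ℤ).next i = j :=
  (ComplexShape.up ℤ).next_eq' h

theorem prev_up {i j : ℤ} (h : i + 1 = j) : (ComplexShape.up ℤ).prev j = i :=
  (ComplexShape.up ℤ).prev_eq' h

theorem flat_cycles (hF : ∀ i, Module.Flat A (F.X i)) (b : ℤ) (hb : ∀ i, b < i → IsZero (F.X i))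
    (d : ℤ) (hac : ∀ p, d < p → IsZero (F.homology p)) : Module.Flat A (F.cycles d) := by
  have := flat_ker (W := fun i => F.X i) (fun i j => (F.d i j).hom) b
    (fun i hi => ModuleCat.isZero_iff_subsingleton.1 (hb i hi)) d
    (fun i j k hij hjk hd y => ⟨(isZero_homology_iff (prev_up hij) (next_up hjk)).1 (hac j hd) y,
      by
        rintro ⟨x, rfl⟩
        show (F.d i j ≫ F.d j k).hom x = 0
        rw [F.d_comp_d]; rfl⟩) d (d + 1) rfl le_rfl
  let e : F.cycles d →ₗ[A] LinearMap.ker (F.d d (d + 1)).hom :=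
    (F.iCycles d).hom.codRestrict _ fun x => d_iCycles x
  have he : Function.Bijective e :=
    ⟨fun a b h => iCycles_injective F d (congrArg Subtype.val h), fun ⟨z, hz⟩ => by
      obtain ⟨x, hx⟩ := exists_cycles (next_up rfl) z hz
      exact ⟨x, Subtype.ext hx⟩⟩
  exact Module.Flat.of_linearEquiv (LinearEquiv.ofBijective e he)

end Complex

section Cone

variable {C D : CochainComplex (ModuleCat.{u} A) ℤ} (φ : C ⟶ D)

/-- the differential of the cone -/
noncomputable def cd (i j : ℤ) : C.X (i + 1) × D.X i →ₗ[A] C.X (j + 1) × D.X j :=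
  LinearMap.prod (-((C.d (i + 1) (j + 1)).hom ∘ₗ LinearMap.fst A _ _))
    ((if h : i + 1 = j then
        ((φ.f (i + 1)) ≫ eqToHom (by rw [h])).hom ∘ₗ LinearMap.fst A _ _
      else 0) + (D.d i j).hom ∘ₗ LinearMap.snd A _ _)

theorem cd_apply (i : ℤ) (c : C.X (i + 1)) (e : D.X i) :
    cd φ i (i + 1) (c, e) = (-(C.d (i + 1) (i + 1 + 1) c), φ.f (i + 1) c + D.d i (i + 1) e) := by
  simp [cd]

theorem exact_cd [QuasiIso φ] (i : ℤ) :
    Function.Exact (cd φ i (i + 1)) (cd φ (i + 1) (i + 1 + 1)) := by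
  have hinj : Function.Injective (HomologicalComplex.homologyMap φ (i + 1 + 1)) :=
    (ModuleCat.mono_iff_injective _).1 inferInstance
  have hsurj : Function.Surjective (HomologicalComplex.homologyMap φ (i + 1)) :=
    (ModuleCat.epi_iff_surjective _).1 inferInstance
  rw [injective_homologyMap_iff φ (prev_up (rfl : i + 1 + 1 = i + 1 + 1)) (next_up rfl)] at hinj
  rw [surjective_homologyMap_iff φ (prev_up (rfl : i + 1 = i + 1)) (next_up rfl)] at hsurj
  rintro ⟨c, e⟩
  rw [cd_apply, Prod.mk_eq_zero, neg_eq_zero]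
  constructor
  · rintro ⟨hc, he⟩
    obtain ⟨c', hc'⟩ := hinj c hc (-e) (by rw [map_neg, neg_eq_iff_add_eq_zero]; exact (add_comm _ _).trans he)
    have hcyc : D.d (i + 1) (i + 1 + 1) (φ.f (i + 1) c' + e) = 0 := by
      rw [map_add, ← ConcreteCategory.comp_apply, φ.comm, ConcreteCategory.comp_apply, hc', he]
    obtain ⟨z, y, hz, hzy⟩ := hsurj _ hcyc
    refine ⟨(z - c', -y), ?_⟩
    rw [cd_apply]
    refine Prod.ext ?_ ?_
    · show -(C.d (i + 1) (i + 1 + 1) (z - c')) = c
      rw [map_sub, hz, hc', zero_sub, neg_neg]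
    · show φ.f (i + 1) (z - c') + D.d i (i + 1) (-y) = e
      rw [map_sub, hzy, map_neg]
      abel
  · rintro ⟨⟨c', e'⟩, h⟩
    rw [cd_apply, Prod.mk.injEq] at h
    obtain ⟨rfl, rfl⟩ := h
    refine ⟨?_, ?_⟩
    · rw [map_neg, ← ConcreteCategory.comp_apply, C.d_comp_d]; simp
    · rw [map_neg, map_add, ← ConcreteCategory.comp_apply (φ.f (i + 1)), φ.comm,
        ConcreteCategory.comp_apply, ← ConcreteCategory.comp_apply (D.d i (i + 1)), D.d_comp_d]
      simp

variable (M : ModuleCat.{u} A)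

/-- `φ ⊗ M` -/
noncomputable abbrev tmap : ((MonoidalCategory.tensorRight M).mapHomologicalComplex _).obj C ⟶
    ((MonoidalCategory.tensorRight M).mapHomologicalComplex _).obj D :=
  ((MonoidalCategory.tensorRight M).mapHomologicalComplex (ComplexShape.up ℤ)).map φ

theorem prodLeft_cd (i : ℤ) (x : (C.X (i + 1) × D.X i) ⊗[A] M) :
    prodLeft A A _ _ _ ((cd φ i (i + 1)).rTensor M x) =
      (-((C.d (i + 1) (i + 1 + 1)).hom.rTensor M (prodLeft A A _ _ _ x).1),
        (φ.f (i + 1)).hom.rTensor M (prodLeft A A _ _ _ x).1 +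
          (D.d i (i + 1)).hom.rTensor M (prodLeft A A _ _ _ x).2) := by
  induction x using TensorProduct.induction_on with
  | zero => simp only [map_zero, Prod.fst_zero, Prod.snd_zero, neg_zero, add_zero]; rfl
  | tmul w m => obtain ⟨c, e⟩ := w; simp [cd_apply, TensorProduct.neg_tmul, TensorProduct.add_tmul]
  | add a b ha hb =>
    simp only [map_add, ha, hb, Prod.mk_add_mk, Prod.fst_add, Prod.snd_add, neg_add]
    congr 1
    abel

theorem quasiIso_tmap [QuasiIso φ] (hC : ∀ i, Module.Flat A (C.X i)) (hD : ∀ i, Module.Flat A (D.X i))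
    (b : ℤ) (hbC : ∀ i, b < i → IsZero (C.X i)) (hbD : ∀ i, b < i → IsZero (D.X i)) :
    QuasiIso (tmap φ M) := by
  have : ∀ i, Module.Flat A (C.X (i + 1) × D.X i) := fun i =>
    haveI := hC (i + 1)
    haveI := hD i
    RightExact.flat_extension (LinearMap.inl A _ _) (LinearMap.snd A _ _) LinearMap.inl_injective
      LinearMap.snd_surjective Function.Exact.inl_snd
  have hex : ∀ i, Function.Exact ((cd φ i (i + 1)).rTensor M) ((cd φ (i + 1) (i + 1 + 1)).rTensor M) :=
    fun i => exact_rTensor (W := fun i => C.X (i + 1) × D.X i) (cd φ) b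
      (fun i hi => by
        have := ModuleCat.isZero_iff_subsingleton.1 (hbC (i + 1) (by omega))
        have := ModuleCat.isZero_iff_subsingleton.1 (hbD i hi)
        infer_instance)
      (fun a c e hac hce => by subst hac hce; exact exact_cd φ a) M i (i + 1) (i + 1 + 1) rfl rfl
  have key : ∀ i (c : (C.X (i + 1 + 1)) ⊗[A] M) (e : (D.X (i + 1)) ⊗[A] M),
      (C.d (i + 1 + 1) (i + 1 + 1 + 1)).hom.rTensor M c = 0 →
      (φ.f (i + 1 + 1)).hom.rTensor M c + (D.d (i + 1) (i + 1 + 1)).hom.rTensor M e = 0 →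
      ∃ (c' : (C.X (i + 1)) ⊗[A] M) (e' : (D.X i) ⊗[A] M),
        -((C.d (i + 1) (i + 1 + 1)).hom.rTensor M c') = c ∧
          (φ.f (i + 1)).hom.rTensor M c' + (D.d i (i + 1)).hom.rTensor M e' = e := by
    intro i c e hc he
    obtain ⟨y, hy⟩ := (hex i ((prodLeft A A _ _ _).symm (c, e))).1 (by
      apply (prodLeft A A (C.X (i + 1 + 1 + 1)) (D.X (i + 1 + 1)) M).injective
      rw [map_zero, prodLeft_cd, LinearEquiv.apply_symm_apply, hc, he]; simp)
    have h := congrArg (prodLeft A A (C.X (i + 1 + 1)) (D.X (i + 1)) M) hy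
    rw [prodLeft_cd, LinearEquiv.apply_symm_apply, Prod.mk.injEq] at h
    exact ⟨_, _, h⟩
  rw [quasiIso_iff]
  intro p
  rw [quasiIsoAt_iff_isIso_homologyMap, ConcreteCategory.isIso_iff_bijective]
  constructor
  · obtain ⟨i, rfl⟩ : ∃ i, i + 1 + 1 = p := ⟨p - 2, by omega⟩
    refine (injective_homologyMap_iff (tmap φ M) (prev_up (rfl : i + 1 + 1 = i + 1 + 1)) (next_up rfl)).2 ?_
    intro (c : (C.X (i + 1 + 1)) ⊗[A] M) hc (y : (D.X (i + 1)) ⊗[A] M) hy
    obtain ⟨c', e', h1, -⟩ := key i c (-y) hc (by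
      rw [map_neg, show (D.d (i + 1) (i + 1 + 1)).hom.rTensor M y = (φ.f (i + 1 + 1)).hom.rTensor M c from hy]
      exact add_neg_cancel _)
    refine ⟨(-c' : (C.X (i + 1)) ⊗[A] M), ?_⟩
    show (C.d (i + 1) (i + 1 + 1)).hom.rTensor M (-c') = c
    rw [map_neg, h1]
  · obtain ⟨i, rfl⟩ : ∃ i, i + 1 = p := ⟨p - 1, by omega⟩
    refine (surjective_homologyMap_iff (tmap φ M) (prev_up (rfl : i + 1 = i + 1)) (next_up rfl)).2 ?_
    intro (e : (D.X (i + 1)) ⊗[A] M) he
    obtain ⟨c', e', h1, h2⟩ := key i 0 e (map_zero _) (by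
      rw [map_zero, zero_add]; exact he)
    refine ⟨c', (-e' : (D.X i) ⊗[A] M), ?_, ?_⟩
    · show (C.d (i + 1) (i + 1 + 1)).hom.rTensor M c' = 0
      exact neg_eq_zero.1 h1
    · show (φ.f (i + 1)).hom.rTensor M c' = e + (D.d i (i + 1)).hom.rTensor M (-e')
      rw [map_neg, ← h2]
      abel

end Cone

end Groth.Agent.Lib.FlatCx.Above
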