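import Groth.Agent.Lib.FlatCx.RightExact
import Groth.Agent.Lib.FlatCx.DRank

/-!
# Consequences: `T_p(A)`, adjacent vanishing
-/

universe u

open CategoryTheory CategoryTheory.Limits TensorProduct
open Groth.Agent.Lib.FlatCx.Basic Groth.Agent.Lib.FlatCx.HKer Groth.Agent.Lib.FlatCx.Local
open Groth.Agent.Lib.FlatCx.RightExact

namespace Groth.Agent.Lib.FlatCx.Crit

variable {A : Type u} [CommRing A] (P : ChainComplex (ModuleCat.{u} A) ℤ)

/-- `T_p(A) ≅ H_p(P)` -/
noncomputable def TOne (p : ℤ) : CohIII.T P p (ModuleCat.of A A) ≃ₗ[A] P.homology p :=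
  TOneEquiv P (by omega : (p - 1) + 1 = p)

theorem flat_TOne_iff (p : ℤ) :
    Module.Flat A (CohIII.T P p (ModuleCat.of A A)) ↔ Module.Flat A (P.homology p) :=
  Module.Flat.equiv_iff (TOne P p)

theorem finite_homology [IsNoetherianRing A] (p : ℤ) [Module.Finite A (P.X p)] :
    Module.Finite A (P.homology p) :=
  Module.Finite.equiv (homologyKerEquiv P (by omega : (p - 1) + 1 = p)).symm

variable [∀ i, Module.Flat A (P.X i)]

theorem exact_iff_epi_and_free [IsNoetherianRing A] [IsLocalRing A]
    (hP : ∀ i, Module.Finite A (P.X i)) (p : ℤ) :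
    ((CohIII.TFun P p).PreservesMonomorphisms ∧ (CohIII.TFun P p).PreservesEpimorphisms) ↔
      ((CohIII.TFun P p).PreservesEpimorphisms ∧
        Module.Free A (CohIII.T P p (ModuleCat.of A A))) := by
  have := hP p
  have := finite_homology P p
  rw [exact_iff_epi_and_flat P p]
  refine and_congr_right fun _ => ⟨fun h => ?_, fun h => ?_⟩
  · have : Module.Free A (P.homology p) := Module.free_of_flat_of_isLocalRing
    exact Module.Free.of_equiv (TOne P p).symm
  · exact (flat_TOne_iff P p).1 inferInstance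

theorem adjacent_vanishing [IsNoetherianRing A] [IsLocalRing A]
    (hP : ∀ i, Module.Finite A (P.X i)) (p q r : ℤ) (hqp : q + 1 = p) (hpr : p + 1 = r)
    (hq : IsZero (CohIII.T P q (ModuleCat.of A (IsLocalRing.ResidueField A))))
    (hr : IsZero (CohIII.T P r (ModuleCat.of A (IsLocalRing.ResidueField A)))) :
    ((CohIII.TFun P p).PreservesMonomorphisms ∧ (CohIII.TFun P p).PreservesEpimorphisms) ∧
      Module.Free A (CohIII.T P p (ModuleCat.of A A)) := by
  have h : (CohIII.TFun P p).PreservesMonomorphisms ∧ (CohIII.TFun P p).PreservesEpimorphisms := by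
    refine ⟨?_, ?_⟩
    · exact (preservesEpi_iff_preservesMono P r p hpr).1 (isZero_of_residue P hP r hr).1
    · refine (preservesEpi_iff_preservesMono P p q hqp).2 ⟨fun {X Y} g _ => ?_⟩
      have := ModuleCat.isZero_iff_subsingleton.1 ((isZero_of_residue P hP q hq).2 X)
      exact (ModuleCat.mono_iff_injective _).2 fun a b _ => @Subsingleton.elim _ this a b
  exact ⟨h, ((exact_iff_epi_and_free P hP p).1 h).2⟩

end Groth.Agent.Lib.FlatCx.Crit
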