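import Groth.Agent.Lib.FlatCx.DRank
import Groth.Agent.Lib.FlatCx.Crit
import Mathlib.RingTheory.TensorProduct.Maps
import Mathlib.LinearAlgebra.FreeModule.Basic
import Mathlib.LinearAlgebra.Basis.VectorSpace
import Mathlib.LinearAlgebra.Dimension.DivisionRing

/-!
# `dRank` through kernels; base change; `dRank = dim (k(x) ⊗ H_p)` for right exact `T_p`
-/

universe u

open CategoryTheory CategoryTheory.Limits TensorProduct
open Groth.Agent.Lib.FlatCx.Basic Groth.Agent.Lib.FlatCx.HKer
open Groth.Agent.Lib.FlatCx.BaseChange Groth.Agent.Lib.FlatCx.Rank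

namespace Groth.Agent.Lib.FlatCx.Fkr

section LinearAlgebra

variable {A : Type u} [CommRing A] {X Y : Type u} [AddCommGroup X] [Module A X] [AddCommGroup Y]
  [Module A Y]

/-- kernels along a commutative square of equivalences -/
noncomputable def kerEquivOfSquare {R : Type u} [CommRing R] {X₁ Y₁ X₂ Y₂ : Type u}
    [AddCommGroup X₁] [Module R X₁] [AddCommGroup Y₁] [Module R Y₁]
    [AddCommGroup X₂] [Module R X₂] [AddCommGroup Y₂] [Module R Y₂]
    (g₁ : X₁ →ₗ[R] Y₁) (g₂ : X₂ →ₗ[R] Y₂) (eX : X₁ ≃ₗ[R] X₂) (eY : Y₁ ≃ₗ[R] Y₂)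
    (h : ∀ x, eY (g₁ x) = g₂ (eX x)) : LinearMap.ker g₁ ≃ₗ[R] LinearMap.ker g₂ :=
  LinearEquiv.ofSubmodules eX _ _ (by
    have : LinearMap.ker g₁ = (LinearMap.ker g₂).comap eX.toLinearMap := by
      ext x
      show g₁ x = 0 ↔ g₂ (eX x) = 0
      rw [← h, LinearEquiv.map_eq_zero_iff]
    rw [this]
    exact Submodule.map_comap_eq_of_surjective eX.surjective _)

variable (f : X →ₗ[A] Y)

/-- dimension of the kernel after base change to a field -/
noncomputable def fkr (L : Type u) [Field L] [Algebra A L] : ℕ :=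
  Module.finrank L (LinearMap.ker (f.baseChange L))

theorem cancel_apply (B L : Type u) [CommRing B] [Algebra A B] [CommRing L] [Algebra A L]
    [Algebra B L] [IsScalarTower A B L] (z : L ⊗[B] (B ⊗[A] X)) :
    AlgebraTensorModule.cancelBaseChange A B L L Y ((f.baseChange B).baseChange L z) =
      f.baseChange L (AlgebraTensorModule.cancelBaseChange A B L L X z) := by
  induction z using TensorProduct.induction_on with
  | zero => simp
  | tmul l w =>
    induction w using TensorProduct.induction_on with
    | zero => simp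
    | tmul b x => simp
    | add a c ha hc => simp only [tmul_add, map_add, ha, hc]
  | add a c ha hc => simp only [map_add, ha, hc]

theorem fkr_tower (B L : Type u) [CommRing B] [Algebra A B] [Field L] [Algebra A L]
    [Algebra B L] [IsScalarTower A B L] : fkr (f.baseChange B) L = fkr f L :=
  (kerEquivOfSquare ((f.baseChange B).baseChange L) (f.baseChange L) _ _
    (cancel_apply f B L)).finrank_eq

theorem fkr_congr {X' Y' : Type u} [AddCommGroup X'] [Module A X'] [AddCommGroup Y'] [Module A Y']
    (f' : X' →ₗ[A] Y') (eX : X ≃ₗ[A] X') (eY : Y ≃ₗ[A] Y') (h : ∀ x, eY (f x) = f' (eX x))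
    (L : Type u) [Field L] [Algebra A L] : fkr f L = fkr f' L := by
  refine (kerEquivOfSquare (f.baseChange L) (f'.baseChange L) (eX.baseChange A L) (eY.baseChange A L)
    fun z => ?_).finrank_eq
  induction z using TensorProduct.induction_on with
  | zero => simp
  | tmul l x => simp [h]
  | add a c ha hc => simp only [map_add, ha, hc]

theorem fkr_field (k L : Type u) [Field k] [Algebra A k] [Field L] [Algebra A L] [Algebra k L]
    [IsScalarTower A k L] : fkr f L = fkr f k := by
  have : Module.Free k (LinearMap.ker (f.baseChange k)) :=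
    @Module.Free.of_divisionRing k (LinearMap.ker (f.baseChange k)) _ (Submodule.addCommGroup _) (Submodule.module _)
  rw [← fkr_tower f k L]
  exact ((Ker.kerBaseChangeEquiv (f.baseChange k) L (Ker.ker_lTensor_of_flat _ L)).symm.finrank_eq).trans
    Module.finrank_baseChange

end LinearAlgebra

variable {A : Type u} [CommRing A] (P : ChainComplex (ModuleCat.{u} A) ℤ)

theorem dRank_eq_fkr (p q : ℤ) (hpq : q + 1 = p) (x : PrimeSpectrum A) :
    CohIII.dRank P p x = fkr (Dbar P p q) x.asIdeal.ResidueField :=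
  (homologyKerEquiv (bc P x.asIdeal.ResidueField) hpq ≪≫ₗ
    kerDbarEquiv P x.asIdeal.ResidueField p q).finrank_eq

theorem dRank_baseChange (B : Type u) [CommRing B] [Algebra A B] (p : ℤ) (y : PrimeSpectrum B) :
    CohIII.dRank (bc P B) p y = CohIII.dRank P p (PrimeSpectrum.comap (algebraMap A B) y) := by
  let x := PrimeSpectrum.comap (algebraMap A B) y
  let : Algebra x.asIdeal.ResidueField y.asIdeal.ResidueField :=
    (Ideal.ResidueField.map x.asIdeal y.asIdeal (algebraMap A B) rfl).toAlgebra
  have : IsScalarTower A x.asIdeal.ResidueField y.asIdeal.ResidueField :=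
    .of_algebraMap_eq fun a => (((Ideal.ResidueField.map_algebraMap x.asIdeal y.asIdeal
      (algebraMap A B) rfl a)).trans
        (IsScalarTower.algebraMap_apply A B y.asIdeal.ResidueField a).symm).symm
  rw [dRank_eq_fkr (bc P B) p (p - 1) (by omega), dRank_eq_fkr P p (p - 1) (by omega),
    fkr_congr (Dbar (bc P B) p (p - 1)) ((Dbar P p (p - 1)).baseChange B) (QEquiv P B p)
      (Xequiv P B (p - 1)) (extEquiv_Dbar P B p (p - 1)), fkr_tower,
    fkr_field (Dbar P p (p - 1)) x.asIdeal.ResidueField y.asIdeal.ResidueField]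

theorem dRank_eq_fdim_homology (p q : ℤ) (hpq : q + 1 = p) [Module.Flat A (P.X q)]
    [Module.Flat A (Q P q)] (x : PrimeSpectrum A) :
    CohIII.dRank P p x = fdim (P.homology p) x :=
  (homologyBCEquivOfFlatQ P x.asIdeal.ResidueField hpq).finrank_eq

theorem isZero_bc_X {i₀ : ℤ} (hb : ∀ i < i₀, IsZero (P.X i)) (B : Type u) [CommRing B]
    [Algebra A B] : ∀ i < i₀, IsZero ((bc P B).X i) := fun i hi =>
  have := ModuleCat.isZero_iff_subsingleton.1 (hb i hi)
  ModuleCat.isZero_iff_subsingleton.2 (Xequiv P B i).injective.subsingleton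

variable [∀ i, Module.Flat A (P.X i)]

theorem isLocallyConstant_dRank_of_exact (p : ℤ)
    (h : (CohIII.TFun P p).PreservesMonomorphisms ∧ (CohIII.TFun P p).PreservesEpimorphisms)
    [Module.FinitePresentation A (CohIII.T P p (ModuleCat.of A A))] :
    IsLocallyConstant (CohIII.dRank P p) := by
  have := (preservesEpi_iff P p (p - 1) (by omega)).1 h.2
  have := Local.flat_homology_of_exact P p h
  have : Module.FinitePresentation A (P.homology p) :=
    Module.FinitePresentation.of_equiv (Crit.TOne P p)
  rw [show CohIII.dRank P p = fdim (P.homology p) from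
    funext (dRank_eq_fdim_homology P p (p - 1) (by omega))]
  exact isLocallyConstant_fdim _

theorem exact_bc_upTo {i₀ : ℤ} (hb : ∀ i < i₀, IsZero (P.X i)) (B : Type u) [CommRing B]
    [Algebra A B] [Module.Flat A B] (N : ℤ)
    (h : ∀ q, i₀ ≤ q → q ≤ N → Module.Flat B (B ⊗[A] P.homology q)) :
    ∀ q ≤ N, (CohIII.TFun (bc P B) q).PreservesMonomorphisms ∧
      (CohIII.TFun (bc P B) q).PreservesEpimorphisms := by
  refine (RightExact.exact_upTo_iff (bc P B) (isZero_bc_X P hb B) N).2 fun q hq => ?_
  by_cases hq0 : i₀ ≤ q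
  · have := h q hq0 hq
    exact Module.Flat.of_linearEquiv (homologyBCEquivOfFlat P B (by omega : (q - 1) + 1 = q))
  · have := RightExact.subsingleton_X (bc P B) (isZero_bc_X P hb B) q (by omega)
    have : Subsingleton ((bc P B).homology q) :=
      (homologyKerEquiv (bc P B) (by omega : (q - 1) + 1 = q)).injective.subsingleton
    infer_instance

end Groth.Agent.Lib.FlatCx.Fkr
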