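import Mathlib.RingTheory.LocalRing.Module
import Mathlib.RingTheory.LocalProperties.Projective
import Mathlib.LinearAlgebra.TensorProduct.RightExactness
import Mathlib.RingTheory.Flat.Stability

/-!
# Projectivity of a cokernel from exactness after reduction at all maximal ideals
-/

universe u

open TensorProduct

namespace Groth.Agent.Lib.FlatCx.ProjCoker

variable {A : Type u} [CommRing A] {X Y Z : Type u} [AddCommGroup X] [Module A X]
  [AddCommGroup Y] [Module A Y] [AddCommGroup Z] [Module A Z]

theorem injective_maximal (d₁ : X →ₗ[A] Y) (d₂ : Y →ₗ[A] Z) (h : d₂ ∘ₗ d₁ = 0) [Module.Flat A Z]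
    (m : Ideal A) (hex : Function.Exact (d₁.rTensor (A ⧸ m)) (d₂.rTensor (A ⧸ m))) :
    Function.Injective (m.subtype.lTensor (Z ⧸ LinearMap.range d₂)) := by
  rw [injective_iff_map_eq_zero]
  intro ξ hξ
  obtain ⟨w, rfl⟩ := LinearMap.rTensor_surjective m (Submodule.mkQ_surjective (LinearMap.range d₂)) ξ
  rw [← LinearMap.comp_apply, LinearMap.lTensor_comp_rTensor, ← LinearMap.rTensor_comp_lTensor,
    LinearMap.comp_apply] at hξ
  obtain ⟨y, hy⟩ := (rTensor_exact A (LinearMap.exact_map_mkQ_range d₂) (Submodule.mkQ_surjective _) _).1 hξ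
  have hy0 : d₂.rTensor (A ⧸ m) (m.mkQ.lTensor Y y) = 0 := by
    rw [← LinearMap.comp_apply, LinearMap.rTensor_comp_lTensor, ← LinearMap.lTensor_comp_rTensor,
      LinearMap.comp_apply, hy, ← LinearMap.lTensor_comp_apply,
      (LinearMap.exact_subtype_mkQ m).linearMap_comp_eq_zero, LinearMap.lTensor_zero]
    rfl
  obtain ⟨x, hx⟩ := (hex _).1 hy0
  obtain ⟨x', rfl⟩ := LinearMap.lTensor_surjective X (Submodule.mkQ_surjective m) x
  have hk : m.mkQ.lTensor Y (y - d₁.rTensor A x') = 0 := by
    rw [map_sub, ← hx, ← LinearMap.comp_apply, ← LinearMap.comp_apply,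
      LinearMap.rTensor_comp_lTensor, LinearMap.lTensor_comp_rTensor, sub_self]
  obtain ⟨y', hy'⟩ := (lTensor_exact Y (LinearMap.exact_subtype_mkQ m) (Submodule.mkQ_surjective m) _).1 hk
  have hw : w = d₂.rTensor m y' := by
    apply Module.Flat.lTensor_preserves_injective_linearMap (M := Z) m.subtype m.subtype_injective
    rw [← LinearMap.comp_apply (m.subtype.lTensor Z) (d₂.rTensor m), LinearMap.lTensor_comp_rTensor,
      ← LinearMap.rTensor_comp_lTensor, LinearMap.comp_apply, hy', map_sub, hy,
      ← LinearMap.rTensor_comp_apply, h, LinearMap.rTensor_zero]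
    simp
  rw [hw, ← LinearMap.rTensor_comp_apply, (LinearMap.exact_map_mkQ_range d₂).linearMap_comp_eq_zero,
    LinearMap.rTensor_zero]
  rfl

theorem projective_coker [IsNoetherianRing A] (d₁ : X →ₗ[A] Y) (d₂ : Y →ₗ[A] Z) (h : d₂ ∘ₗ d₁ = 0)
    [Module.Finite A Z] [Module.Flat A Z]
    (hex : ∀ (m : Ideal A) [m.IsMaximal], Function.Exact (d₁.rTensor (A ⧸ m)) (d₂.rTensor (A ⧸ m))) :
    Module.Projective A (Z ⧸ LinearMap.range d₂) := by
  have : Module.FinitePresentation A (Z ⧸ LinearMap.range d₂) := Module.finitePresentation_of_finite A _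
  refine Module.projective_of_localization_maximal fun m hm => ?_
  have hinj := injective_maximal d₁ d₂ h m (hex m)
  have hk : Function.Injective ((LinearMap.range d₂).subtype.lTensor (A ⧸ m)) :=
    lTensor_injective_of_exact_of_exact_of_rTensor_injective
      (M₁ := m) (M₂ := A) (M₃ := A ⧸ m)
      (N₁ := LinearMap.range d₂) (N₂ := Z) (N₃ := Z ⧸ LinearMap.range d₂)
      (LinearMap.exact_subtype_mkQ m) (Submodule.mkQ_surjective _)
      (LinearMap.exact_subtype_mkQ _) (Submodule.mkQ_surjective _)
      ((LinearMap.lTensor_inj_iff_rTensor_inj _ _).1 hinj)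
      (Module.Flat.lTensor_preserves_injective_linearMap _ (Submodule.subtype_injective _))
  let L := Localization.AtPrime m
  let k := IsLocalRing.ResidueField L
  let e : (A ⧸ m) ≃ₗ[A] k := LinearEquiv.ofBijective
    (IsScalarTower.toAlgHom A (A ⧸ m) k).toLinearMap m.bijective_algebraMap_quotient_residueField
  have hkk : Function.Injective ((LinearMap.range d₂).subtype.lTensor k) := by
    have : (LinearMap.range d₂).subtype.lTensor k ∘ₗ (e.rTensor (LinearMap.range d₂)).toLinearMap =
        (e.rTensor Z).toLinearMap ∘ₗ (LinearMap.range d₂).subtype.lTensor (A ⧸ m) :=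
      TensorProduct.ext' fun _ _ => rfl
    have h2 : Function.Injective
        ((LinearMap.range d₂).subtype.lTensor k ∘ₗ (e.rTensor (LinearMap.range d₂)).toLinearMap) := by
      rw [this]; exact (e.rTensor Z).injective.comp hk
    intro a b hab
    obtain ⟨a, rfl⟩ := (e.rTensor (LinearMap.range d₂)).surjective a
    obtain ⟨b, rfl⟩ := (e.rTensor (LinearMap.range d₂)).surjective b
    exact congrArg _ (h2 hab)
  have hkL : Function.Injective (((LinearMap.range d₂).subtype.baseChange L).lTensor k) := by
    have hsq : ∀ z, AlgebraTensorModule.cancelBaseChange A L L k Z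
        (((LinearMap.range d₂).subtype.baseChange L).lTensor k z) =
        (LinearMap.range d₂).subtype.lTensor k
          (AlgebraTensorModule.cancelBaseChange A L L k (LinearMap.range d₂) z) := by
      intro z
      induction z using TensorProduct.induction_on with
      | zero => simp
      | tmul l w =>
        induction w using TensorProduct.induction_on with
        | zero => simp
        | tmul b x => simp
        | add a c ha hc => simp only [tmul_add, map_add, ha, hc]
      | add a c ha hc => simp only [map_add, ha, hc]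
    intro a b hab
    apply (AlgebraTensorModule.cancelBaseChange A L L k (LinearMap.range d₂)).injective
    apply hkk
    rw [← hsq, ← hsq, hab]
  have : Module.Free L (L ⊗[A] Z) := Module.free_of_flat_of_isLocalRing
  have hfree : Module.Free L (L ⊗[A] (Z ⧸ LinearMap.range d₂)) :=
    Module.free_of_lTensor_residueField_injective
      ((LinearMap.range d₂).subtype.baseChange L) ((LinearMap.range d₂).mkQ.baseChange L)
      (LinearMap.lTensor_surjective L (Submodule.mkQ_surjective _))
      (lTensor_exact L (LinearMap.exact_subtype_mkQ _) (Submodule.mkQ_surjective _)) hkL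
  exact Module.Projective.of_equiv
    (LocalizedModule.equivTensorProduct m.primeCompl (Z ⧸ LinearMap.range d₂)).symm

end Groth.Agent.Lib.FlatCx.ProjCoker
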