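import Groth.Agent.Lib.FlatCx.Open
import Mathlib.RingTheory.Filtration

/-!
# Generic exactness, adic criterion, regular elements
-/

universe u

open CategoryTheory CategoryTheory.Limits TensorProduct
open Groth.Agent.Lib.FlatCx.Basic Groth.Agent.Lib.FlatCx.HKer
open Groth.Agent.Lib.FlatCx.BaseChange Groth.Agent.Lib.FlatCx.Rank Groth.Agent.Lib.FlatCx.Local
open Groth.Agent.Lib.FlatCx.RightExact Groth.Agent.Lib.FlatCx.Open

namespace Groth.Agent.Lib.FlatCx.Generic

variable {A : Type u} [CommRing A] (P : ChainComplex (ModuleCat.{u} A) ℤ)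
  [∀ i, Module.Flat A (P.X i)]

theorem finitePresentation_homology (n : ℤ)
    [Module.FinitePresentation A (CohIII.T P n (ModuleCat.of A A))] :
    Module.FinitePresentation A (P.homology n) :=
  Module.FinitePresentation.of_equiv (Crit.TOne P n)

theorem dRank_upTo_forward [IsLocalRing A] (p : ℤ)
    (hfp : ∀ n : ℤ, Module.FinitePresentation A (CohIII.T P n (ModuleCat.of A A)))
    (h : ∀ q ≤ p, (CohIII.TFun P q).PreservesMonomorphisms ∧ (CohIII.TFun P q).PreservesEpimorphisms)
    (x : PrimeSpectrum A) (q : ℤ) (hq : q ≤ p) :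
    CohIII.dRank P q x = CohIII.dRank P q (IsLocalRing.closedPoint A) := by
  have := hfp q
  exact ((Fkr.isLocallyConstant_dRank_of_exact P q (h q hq)).eventually_eq
    (IsLocalRing.closedPoint A)).filter_mono (IsLocalRing.specializes_closedPoint x) |>.self_of_nhds

theorem exact_upTo_of_dRank [IsLocalRing A] [IsReduced A] {i₀ : ℤ} (hb : ∀ i < i₀, IsZero (P.X i))
    (p : ℤ) (hfp : ∀ n : ℤ, Module.FinitePresentation A (CohIII.T P n (ModuleCat.of A A)))
    (h : ∀ x : PrimeSpectrum A, x.asIdeal ∈ minimalPrimes A →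
      ∀ q ≤ p, CohIII.dRank P q x = CohIII.dRank P q (IsLocalRing.closedPoint A)) :
    ∀ q ≤ p, (CohIII.TFun P q).PreservesMonomorphisms ∧ (CohIII.TFun P q).PreservesEpimorphisms := by
  refine (RightExact.exact_upTo_iff P hb p).2 fun q hq => ?_
  have key : ∀ (n : ℕ) (q : ℤ), q ≤ p → q - i₀ < n →
      Module.Flat A (P.homology q) ∧ Module.Flat A (Q P q) := by
    intro n
    induction n with
    | zero =>
      intro q _ hq
      have := subsingleton_X P hb q (by omega)
      have : Subsingleton (P.homology q) :=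
        (homologyKerEquiv P (by omega : (q - 1) + 1 = q)).injective.subsingleton
      exact ⟨inferInstance, inferInstance⟩
    | succ n ih =>
      intro q hqp hq
      have := (ih (q - 1) (by omega) (by omega)).2
      have := hfp q
      have := finitePresentation_homology P q
      have : Module.Free A (P.homology q) := free_of_fdim_minimalPrimes _ fun x hx => by
        rw [← Fkr.dRank_eq_fdim_homology P q (q - 1) (by omega),
          ← Fkr.dRank_eq_fdim_homology P q (q - 1) (by omega)]
        exact h x hx q hqp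
      exact ⟨inferInstance, flat_Q_of_flat_homology P (by omega : (q - 1) + 1 = q)⟩
  exact (key ((q - i₀).toNat + 1) q hq (by omega)).1

theorem exists_away_exact [IsDomain A] {i₀ : ℤ} (hb : ∀ i < i₀, IsZero (P.X i))
    (hfp : ∀ n : ℤ, Module.FinitePresentation A (CohIII.T P n (ModuleCat.of A A))) (N : ℤ) :
    ∃ f : A, f ≠ 0 ∧ ∀ p ≤ N,
      (CohIII.TFun (bc P (Localization.Away f)) p).PreservesMonomorphisms ∧
        (CohIII.TFun (bc P (Localization.Away f)) p).PreservesEpimorphisms := by
  classical
  let x : PrimeSpectrum A := ⟨⊥, Ideal.isPrime_bot⟩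
  let U : Set (PrimeSpectrum A) := ⋂ n ∈ Finset.Icc i₀ N, Module.freeLocus A (P.homology n)
  have hU : IsOpen U := isOpen_biInter_finset fun n _ => by
    have := hfp n
    have := finitePresentation_homology P n
    exact Module.isOpen_freeLocus
  have hxU : x ∈ U := by
    simp only [U, Set.mem_iInter]
    intro n _
    exact mem_freeLocus_of_minimalPrimes _ x (by
      rw [IsDomain.minimalPrimes_eq_singleton_bot]; rfl)
  obtain ⟨_, ⟨f, rfl⟩, hxf, hfU⟩ :=
    PrimeSpectrum.isTopologicalBasis_basic_opens.exists_subset_of_mem_open hxU hU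
  refine ⟨f, fun e => hxf (e ▸ Ideal.zero_mem _), Fkr.exact_bc_upTo P hb _ N fun q h1 h2 => ?_⟩
  have := hfp q
  have := finitePresentation_homology P q
  have hq : (PrimeSpectrum.basicOpen f : Set (PrimeSpectrum A)) ⊆ Module.freeLocus A (P.homology q) :=
    hfU.trans (Set.biInter_subset_of_mem (Finset.mem_Icc.2 ⟨h1, h2⟩))
  have hfree := (Module.basicOpen_subset_freeLocus_iff.1 hq)
  have : Module.Flat (Localization (Submonoid.powers f))
      (LocalizedModule (Submonoid.powers f) (P.homology q)) := @Module.Flat.of_projective _ _ _ _ _ hfree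
  exact Module.Flat.of_linearEquiv
    (LocalizedModule.equivTensorProduct (Submonoid.powers f) (P.homology q)).symm

theorem exists_dense_open_red [IsNoetherianRing A] [IsReduced A] {i₀ : ℤ}
    (hb : ∀ i < i₀, IsZero (P.X i))
    (hfg : ∀ n : ℤ, Module.Finite A (P.homology n)) (N : ℤ) :
    ∃ U : Set (PrimeSpectrum A), IsOpen U ∧ Dense U ∧
      ∀ p ≤ N, IsLocallyConstant (fun x : U => CohIII.dRank P p x) := by
  classical
  have hfp : ∀ n, Module.FinitePresentation A (P.homology n) := fun n =>
    haveI := hfg n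
    Module.finitePresentation_of_finite A _
  let U : Set (PrimeSpectrum A) := ⋂ n ∈ Finset.Icc i₀ N, Module.freeLocus A (P.homology n)
  refine ⟨U, isOpen_biInter_finset fun n _ => (haveI := hfp n; Module.isOpen_freeLocus),
    dense_of_minimalPrimes U fun y hy => ?_, fun p hp => ?_⟩
  · simp only [U, Set.mem_iInter]
    exact fun n _ => mem_freeLocus_of_minimalPrimes _ y hy
  have hexact : ∀ y : U, ∀ q ≤ N,
      (CohIII.TFun (bc P (Localization.AtPrime y.1.asIdeal)) q).PreservesMonomorphisms ∧
      (CohIII.TFun (bc P (Localization.AtPrime y.1.asIdeal)) q).PreservesEpimorphisms := fun y =>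
    Fkr.exact_bc_upTo P hb _ N fun q h1 h2 =>
      (flat_localization_iff _ y.1).2 (Set.mem_iInter₂.1 y.2 q (Finset.mem_Icc.2 ⟨h1, h2⟩))
  by_cases hp0 : i₀ ≤ p
  · have hval : ∀ y : U, CohIII.dRank P p y = Module.rankAtStalk (P.homology p) y.1 := by
      intro y
      let L := Localization.AtPrime y.1.asIdeal
      have hy : PrimeSpectrum.comap (algebraMap A L) (IsLocalRing.closedPoint L) = y.1 :=
        PrimeSpectrum.ext (IsLocalization.AtPrime.comap_maximalIdeal L y.1.asIdeal)
      have h1 := Fkr.dRank_baseChange P L p (IsLocalRing.closedPoint L)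
      rw [hy] at h1
      rw [← h1]
      have := (preservesEpi_iff (bc P L) p (p - 1) (by omega)).1 (hexact y p hp).2
      rw [Fkr.dRank_eq_fdim_homology (bc P L) p (p - 1) (by omega),
        congrFun (fdim_congr _ (homologyBCEquivOfFlat P L (by omega : (p - 1) + 1 = p))) _]
      have hfree : Module.Flat L (L ⊗[A] P.homology p) :=
        (flat_localization_iff _ y.1).2 (Set.mem_iInter₂.1 y.2 p (Finset.mem_Icc.2 ⟨hp0, hp⟩))
      have : Module.Free L (L ⊗[A] P.homology p) := Module.free_of_flat_of_isLocalRing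
      rw [fdim_eq_rankAtStalk, Module.rankAtStalk_eq_finrank_of_free, Module.rankAtStalk_eq_finrank_tensorProduct]
      rfl
    rw [show (fun x : U => CohIII.dRank P p x) =
      (fun x => Module.rankAtStalk (P.homology p) x.1) ∘
        Set.inclusion (t := Module.freeLocus A (P.homology p))
          (fun y (hy : y ∈ U) => Set.mem_iInter₂.1 hy p (Finset.mem_Icc.2 ⟨hp0, hp⟩)) from funext hval]
    exact (haveI := hfp p; Module.isLocallyConstant_rankAtStalk_freeLocus).comp_continuous
      (continuous_inclusion _)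
  · refine IsLocallyConstant.of_constant _ fun y z => ?_
    have : ∀ y : PrimeSpectrum A, CohIII.dRank P p y = 0 := fun y => by
      have := subsingleton_X (bc P y.asIdeal.ResidueField) (Fkr.isZero_bc_X P hb _) p (by omega)
      have : Subsingleton ((bc P y.asIdeal.ResidueField).homology p) :=
        (homologyKerEquiv _ (by omega : (p - 1) + 1 = p)).injective.subsingleton
      exact Module.finrank_zero_of_subsingleton
    show CohIII.dRank P p y = CohIII.dRank P p z
    rw [this, this]

/-- preservation of epimorphisms from surjectivity at all large infinitesimal neighbourhoods -/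
theorem preservesEpi_of_adic [IsNoetherianRing A] [IsLocalRing A]
    (hP : ∀ i, Module.Finite A (P.X i)) (p q : ℤ) (hpq : q + 1 = p) (n₀ : ℕ)
    (h : ∀ n : ℕ, n₀ ≤ n → Function.Surjective ((CohIII.TFun P p).map (ModuleCat.ofHom
        (Ideal.Quotient.factorₐ A (Ideal.pow_le_self (I := IsLocalRing.maximalIdeal A)
          (Nat.succ_ne_zero n))).toLinearMap :
        ModuleCat.of A (A ⧸ IsLocalRing.maximalIdeal A ^ (n + 1)) ⟶
          ModuleCat.of A (A ⧸ IsLocalRing.maximalIdeal A))).hom) :
    (CohIII.TFun P p).PreservesEpimorphisms := by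
  rw [preservesEpi_iff P p q hpq]
  have := hP q
  have : Module.FinitePresentation A (Q P q) := Module.finitePresentation_of_finite A _
  suffices Module.Free A (Q P q) by infer_instance
  refine free_of_injective _ ((injective_iff_map_eq_zero _).2 fun ξ hξ => ?_)
  let m := IsLocalRing.maximalIdeal A
  have hmem : ∀ n : ℕ, n₀ ≤ n → ξ ∈ (m ^ n • ⊤ : Submodule A (Q P q ⊗[A] m)) := by
    intro n hn
    let g := (Ideal.Quotient.factorₐ A (Ideal.pow_le_self (I := m) (Nat.succ_ne_zero n))).toLinearMap
    have hg : Function.Surjective g :=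
      Ideal.Quotient.factor_surjective (Ideal.pow_le_self (I := m) (Nat.succ_ne_zero n))
    have hinj := (surjective_iff P p q hpq (LinearMap.ker g).subtype g (Submodule.subtype_injective _) hg
      (LinearMap.exact_subtype_ker_map _)).1 (h n hn)
    let π : m →ₗ[A] LinearMap.ker g :=
      ((m ^ (n + 1)).mkQ ∘ₗ m.subtype).codRestrict _ fun a => Ideal.Quotient.eq_zero_iff_mem.2 a.2
    have hπ : Function.Surjective π := by
      rintro ⟨z, hz⟩
      obtain ⟨a, rfl⟩ := Ideal.Quotient.mk_surjective z
      exact ⟨⟨a, Ideal.Quotient.eq_zero_iff_mem.1 hz⟩, rfl⟩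
    have hπξ : π.lTensor (Q P q) ξ = 0 := by
      apply hinj
      rw [map_zero, ← LinearMap.lTensor_comp_apply,
        show (LinearMap.ker g).subtype ∘ₗ π = (m ^ (n + 1)).mkQ ∘ₗ m.subtype from rfl,
        LinearMap.lTensor_comp_apply, hξ, map_zero]
    obtain ⟨k, hk⟩ := (_root_.lTensor_exact (Q P q) (LinearMap.exact_subtype_ker_map π) hπ ξ).1 hπξ
    rw [← hk]
    clear hk
    induction k using TensorProduct.induction_on with
    | zero => simp
    | add a b ha hb => rw [map_add]; exact add_mem ha hb
    | tmul x a =>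
      rw [LinearMap.lTensor_tmul]
      have ha : (a : m) ∈ (m ^ n • ⊤ : Submodule A m) := by
        rw [Submodule.mem_smul_top_iff]
        have h0 : Ideal.Quotient.mk (m ^ (n + 1)) ((a : m) : A) = 0 := congrArg Subtype.val a.2
        rw [smul_eq_mul, ← pow_succ]
        exact Ideal.Quotient.eq_zero_iff_mem.1 h0
      show x ⊗ₜ[A] (a : m) ∈ _
      generalize (a : m) = b at ha ⊢
      induction ha using Submodule.smul_induction_on' with
      | smul r hr b _ => rw [tmul_smul]; exact Submodule.smul_mem_smul hr trivial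
      | add y _ z _ hy hz => rw [tmul_add]; exact add_mem hy hz
  have hz : ξ ∈ (⨅ i : ℕ, m ^ i • ⊤ : Submodule A (Q P q ⊗[A] m)) := by
    rw [Submodule.mem_iInf]
    intro i
    exact Submodule.smul_mono_left (Ideal.pow_le_pow_right (le_max_left i n₀)) (hmem _ (le_max_right i n₀))
  rw [Ideal.iInf_pow_smul_eq_bot_of_isLocalRing m (IsLocalRing.maximalIdeal.isMaximal A).ne_top] at hz
  exact hz

omit [∀ i, Module.Flat A (P.X i)] in
theorem TFun_smul_id (f : A) (M : ModuleCat.{u} A) (p : ℤ) (a : CohIII.T P p M) :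
    (CohIII.TFun P p).map (ModuleCat.ofHom (f • LinearMap.id) : M ⟶ M) a = f • a := by
  obtain ⟨z, hz, rfl⟩ := tcls_surjective P M p (p - 1) (next_eq' p) a
  have e : (f • LinearMap.id : M →ₗ[A] M).lTensor (P.X p) z = f • z := by
    rw [LinearMap.lTensor_smul, LinearMap.lTensor_id]; rfl
  refine (map_tcls P (ModuleCat.ofHom (f • LinearMap.id) : M ⟶ M) p (p - 1) (next_eq' p) z hz
    (show (D P p (p - 1)).rTensor M ((f • LinearMap.id : M →ₗ[A] M).lTensor (P.X p) z) = 0 by
      rw [e, map_smul, hz, smul_zero])).trans ?_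
  unfold tcls
  exact (congrArg (Elem.cls (next_eq' p))
    (Subtype.ext e : (⟨_, _⟩ : LinearMap.ker ((CohIII.tensorObj P M).d p (p - 1)).hom) = f • ⟨z, hz⟩)).trans
      (map_smul (Elem.cls (next_eq' p)) f _)

theorem smul_injective_of_preservesEpi (p q : ℤ) (hpq : q + 1 = p)
    (hex : (CohIII.TFun P p).PreservesEpimorphisms) (M : ModuleCat.{u} A) (f : A)
    (hf : Function.Injective (fun x : M => f • x)) :
    Function.Injective (fun y : CohIII.T P q M => f • y) := by
  have hm := (preservesEpi_iff_preservesMono P p q hpq).1 hex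
  have : Mono (ModuleCat.ofHom (f • LinearMap.id) : M ⟶ M) :=
    (ModuleCat.mono_iff_injective _).2 hf
  intro a b hab
  exact (ModuleCat.mono_iff_injective _).1 (hm.preserves _)
    ((TFun_smul_id P f M q a).trans (hab.trans (TFun_smul_id P f M q b).symm))

end Groth.Agent.Lib.FlatCx.Generic
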